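import Groth.Agent.L12.SymSq.Anti
import Groth.Agent.L16.CohLinear
import Groth.Agent.L16.ProperFinite
import Groth.Agent.L03.Euler.Basic
import Groth.Agent.L03.Euler.Push
import Groth.Agent.L21.RR.Coh
import Groth.Agent.L17.ProjFormula
import Groth.Agent.L16.Existence.Vanishing

/-! Cohomology upstairs splits into the invariant and the anti-invariant parts. -/

set_option autoImplicit false
set_option linter.style.haveILetI false
set_option linter.unusedSectionVars false
set_option backward.isDefEq.respectTransparency false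
set_option backward.isDefEq.respectTransparency.types false

universe u

open CategoryTheory CategoryTheory.Limits AlgebraicGeometry TopologicalSpace Opposite

noncomputable section

namespace Groth.L12.SymSq

open Groth.L21.RR (h hk)
open Groth.L16.CohLinear (hmap hmap_comp hmap_id exact_hmap_hmap)

section Split

variable (k : Type u) [Field k] {X : Scheme.{u}} [X.Over (Spec (CommRingCat.of k))]

theorem h_split {T : ShortComplex X.Modules} (hT : T.ShortExact) (sp : T.Splitting) (n : ℕ)
    [Module.Finite k (Coh.HH X T.X₁ n)] [Module.Finite k (Coh.HH X T.X₂ n)] :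
    h k n T.X₂ = h k n T.X₁ + h k n T.X₃ := by
  have hinj : Function.Injective (hk k T.f n) := Function.LeftInverse.injective (g := hmap sp.r n) fun x =>
    (hmap_comp T.f sp.r n x).symm.trans (by rw [sp.f_r]; exact hmap_id n x)
  have hsurj : Function.Surjective (hk k T.g n) := Function.RightInverse.surjective (g := hmap sp.s n) fun x =>
    (hmap_comp sp.s T.g n x).symm.trans (by rw [sp.s_g]; exact hmap_id n x)
  have r₁ := (hk k T.g n).finrank_range_add_finrank_ker
  rw [LinearMap.range_eq_top.2 hsurj, finrank_top,
    LinearMap.exact_iff.1 (show Function.Exact (hk k T.f n) (hk k T.g n) from exact_hmap_hmap hT n),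
    LinearMap.finrank_range_of_inj hinj] at r₁
  simp only [h]
  omega

end Split

namespace InvQuot

variable {k : Type u} [Field k] {X S : Scheme.{u}} {π : X ⟶ S} {τ : X ⟶ X} (hq : InvQuot π τ)
  [X.Over (Spec (CommRingCat.of k))] [S.Over (Spec (CommRingCat.of k))]
  [IsProper (X ↘ Spec (CommRingCat.of k))] [IsProper (S ↘ Spec (CommRingCat.of k))] [S.IsSeparated]
  (hπ : π ≫ (S ↘ Spec (CommRingCat.of k)) = X ↘ Spec (CommRingCat.of k))

/-- The invariant and anti-invariant parts. -/
abbrev partsSeq : ShortComplex S.Modules := ShortComplex.mk hq.antiι hq.retr (kernel.condition hq.retr)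

theorem shortExact_partsSeq : hq.partsSeq.ShortExact := by
  haveI : Epi hq.retr := SplitEpi.epi ⟨ClSub.unitToPush π, hq.unit_retr⟩
  haveI : Mono hq.partsSeq.f := inferInstanceAs (Mono (kernel.ι hq.retr))
  haveI : Epi hq.partsSeq.g := inferInstanceAs (Epi hq.retr)
  exact ⟨ShortComplex.exact_of_f_is_kernel _ (kernelIsKernel hq.retr)⟩

include hπ in
theorem h_pullback {M : S.Modules} (hM : PicF.IsInvertible M) (hA : PicF.IsInvertible hq.anti) (n : ℕ) :
    h k n ((Scheme.Modules.pullback π).obj M) = h k n M + h k n (CohB1.tensorMod M hq.anti) := by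
  haveI := hq.affine
  haveI := Groth.L21.RR.isNoetherian_of_proper (X := X) k
  haveI := Groth.L21.RR.isNoetherian_of_proper (X := S) k
  have hMX := Groth.L18.Ample.isInvertible_pullback π hM
  have hMXc := Groth.L16.ProperFinite.isCoh_of_isInvertible hMX
  haveI : Epi hq.retr := SplitEpi.epi ⟨ClSub.unitToPush π, hq.unit_retr⟩
  haveI : Mono hq.partsSeq.f := inferInstanceAs (Mono (kernel.ι hq.retr))
  let sp : hq.partsSeq.Splitting :=
    ShortComplex.Splitting.ofExactOfSection hq.partsSeq hq.shortExact_partsSeq.exact (ClSub.unitToPush π)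
      hq.unit_retr inferInstance
  let F := (DCoh.tensorBi (X := S)).obj M
  haveI : F.Additive := by dsimp [F]; infer_instance
  let sp' := sp.map F
  haveI := Groth.L17.ProjFormula.isIso_θ π M (Coh.structureModule X) (Groth.L16.Existence.isFinLocFree_of_isInvertible hM)
  let e : CohB1.tensorMod M ((Scheme.Modules.pushforward π).obj (Coh.structureModule X)) ≅
      (Scheme.Modules.pushforward π).obj ((Scheme.Modules.pullback π).obj M) :=
    asIso (Groth.L17.ClosedPush.θ π (Coh.structureModule X) M) ≪≫
      (Scheme.Modules.pushforward π).mapIso (Groth.L00.Tensor.tensorUnitRight _)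
  obtain ⟨E⟩ := Groth.L03.Euler.exists_HH_push_linearEquiv (k := k) π ((Scheme.Modules.pullback π).obj M) hMXc.1 hπ n
  haveI := Groth.L21.RR.finite_HH' k hMXc n
  haveI : Module.Finite k (Coh.HH S ((Scheme.Modules.pushforward π).obj ((Scheme.Modules.pullback π).obj M)) n) :=
    Module.Finite.equiv E
  haveI : Module.Finite k (Coh.HH S (hq.partsSeq.map F).X₂ n) :=
    Module.Finite.equiv (LinearEquiv.ofLinearMap (hk k e.inv n) (hk k e.hom n)
      (LinearMap.ext fun x => (hmap_comp e.hom e.inv n x).symm.trans (by rw [e.hom_inv_id]; exact hmap_id n x))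
      (LinearMap.ext fun x => (hmap_comp e.inv e.hom n x).symm.trans (by rw [e.inv_hom_id]; exact hmap_id n x)))
  haveI : Module.Finite k (Coh.HH S (hq.partsSeq.map F).X₁ n) :=
    Groth.L21.RR.finite_HH' k (M := CohB1.tensorMod M hq.anti)
      (Groth.L16.ProperFinite.isCoh_of_isInvertible (Groth.L18.GenLoc.isInvertible_tensor hM hA)) n
  have h1 := h_split k sp'.shortExact sp' n
  have h2 : h k n (hq.partsSeq.map F).X₂ = h k n ((Scheme.Modules.pullback π).obj M) :=
    (Groth.L21.RR.h_congr k e n).trans E.finrank_eq.symm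
  have h3 : h k n (hq.partsSeq.map F).X₃ = h k n M :=
    Groth.L21.RR.h_congr k (Groth.L00.Tensor.tensorUnitRight M) n
  rw [h2, h3] at h1
  exact h1.trans (add_comm _ _)

include hπ in
theorem subsingleton_of_pullback {M : S.Modules} (hM : PicF.IsInvertible M) (hA : PicF.IsInvertible hq.anti) {n : ℕ}
    (hn : Subsingleton (Coh.HH X ((Scheme.Modules.pullback π).obj M) n)) : Subsingleton (Coh.HH S M n) := by
  haveI := Groth.L21.RR.isNoetherian_of_proper (X := S) k
  haveI := Groth.L21.RR.finite_HH' k (Groth.L16.ProperFinite.isCoh_of_isInvertible hM) n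
  have h1 := hq.h_pullback hπ hM hA n
  rw [Groth.L21.RR.h_eq_zero_of_subsingleton k hn] at h1
  exact Module.finrank_zero_iff.1 (show h k n M = 0 by omega)

end InvQuot

end Groth.L12.SymSq
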