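import Groth.Agent.L12.SymSq.Decomp
import Groth.Agent.L12.HypSq.Theta
import Groth.Agent.L27.Quot.Finite
import Groth.Agent.L27.Quot.Reynolds
import Groth.Agent.L00.DimClosedSurj
import Mathlib.AlgebraicGeometry.Morphisms.FinitePresentation

/-! The symmetric square of a curve as a quotient of the square by the swap. -/

set_option autoImplicit false
set_option linter.style.haveILetI false
set_option linter.unusedSectionVars false
set_option backward.isDefEq.respectTransparency false
set_option backward.isDefEq.respectTransparency.types false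

universe u

open CategoryTheory CategoryTheory.Limits AlgebraicGeometry TopologicalSpace Opposite

noncomputable section

namespace Groth.L12.SymSq

open Groth.L12.HypSq (Sq graph)

variable {k : Type u} [Field k] {C : Scheme.{u}} [C.Over (Spec (CommRingCat.of k))]

/-- The swap of the two factors. -/
abbrev swap : Sq k C ⟶ Sq k C :=
  (pullbackSymmetry (C ↘ Spec (CommRingCat.of k)) (C ↘ Spec (CommRingCat.of k))).hom

/-- The diagonal is the fixed scheme of the swap. -/
theorem isFixedScheme_diag [IsProper (C ↘ Spec (CommRingCat.of k))] :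
    IsFixedScheme (swap (k := k) (C := C)) (graph (k := k) (f := 𝟙 C) (Category.id_comp _)) where
  immersion := inferInstance
  comp := by apply pullback.hom_ext <;> simp [swap]
  univ f hf := ⟨f ≫ pullback.fst _ _, by
    apply pullback.hom_ext
    · simp
    · rw [Category.assoc, pullback.lift_snd]
      have := congrArg (· ≫ pullback.snd (C ↘ Spec (CommRingCat.of k)) (C ↘ Spec (CommRingCat.of k))) hf
      simp only [Category.assoc, swap, pullbackSymmetry_hom_comp_snd] at this
      rw [Category.comp_id]
      exact this⟩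

variable {S : Scheme.{u}} {π : Sq k C ⟶ S} [S.Over (Spec (CommRingCat.of k))]
  {ρ : ULift.{u} (Equiv.Perm (Fin 2)) →* Aut (Sq k C)}
  (hρ : (ρ (ULift.up (Equiv.swap 0 1))).hom = swap (k := k) (C := C)) (hπ : SGA1.IsQuot ρ π)
  (hq : π ≫ (S ↘ Spec (CommRingCat.of k)) = (Sq k C) ↘ Spec (CommRingCat.of k))
  (h2 : (2 : k) ≠ 0)

theorem perm_eq : ∀ g : ULift.{u} (Equiv.Perm (Fin 2)), g = 1 ∨ g = ULift.up (Equiv.swap 0 1) := by
  rintro ⟨g⟩
  rcases (show ∀ g : Equiv.Perm (Fin 2), g = 1 ∨ g = Equiv.swap 0 1 by decide) g with rfl | rfl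
  · exact Or.inl rfl
  · exact Or.inr rfl

include hρ hπ hq h2 in
theorem invQuot : InvQuot π (swap (k := k) (C := C)) where
  affine := hπ.affine
  comp := by rw [← hρ]; exact hπ.inv _
  invol := by apply pullback.hom_ext <;> simp [swap]
  injective := hπ.injective
  range U s hs := by
    refine (hπ.range_iff U s).2 fun g => ?_
    rcases perm_eq g with rfl | rfl
    · exact congr($(Groth.L27.Quot.act_one hπ.inv U) s)
    · rw [Groth.L27.Quot.appLE_eq_of_eq hρ]
      exact hs
  two := by
    have hu : IsUnit (2 : k) := isUnit_iff_ne_zero.2 h2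
    have := hu.map (((Scheme.ΓSpecIso (CommRingCat.of k)).inv ≫ (S ↘ Spec (CommRingCat.of k)).appTop).hom)
    rwa [map_ofNat] at this

include hπ hq in
theorem isFinite_proj [IsProper (C ↘ Spec (CommRingCat.of k))] : IsFinite π := by
  haveI : LocallyOfFiniteType (π ≫ (S ↘ Spec (CommRingCat.of k))) := by rw [hq]; infer_instance
  exact Groth.L27.Quot.isFinite_of_comp hπ (S ↘ Spec (CommRingCat.of k))

include hπ hq h2 in
theorem isProper_quot [IsProper (C ↘ Spec (CommRingCat.of k))] : IsProper (S ↘ Spec (CommRingCat.of k)) := by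
  haveI := isFinite_proj hπ hq
  haveI : Surjective π := ⟨Groth.L27.Quot.surjective hπ⟩
  haveI : IsProper (π ≫ (S ↘ Spec (CommRingCat.of k))) := by rw [hq]; infer_instance
  haveI : LocallyOfFinitePresentation (π ≫ (S ↘ Spec (CommRingCat.of k))) := inferInstance
  haveI : IsSeparated (S ↘ Spec (CommRingCat.of k)) := Groth.L27.Quot.isSeparated_of_comp hπ _
  haveI : LocallyOfFinitePresentation (S ↘ Spec (CommRingCat.of k)) := by
    refine Groth.L27.Quot.locallyOfFinitePresentation_desc hπ _ ?_
    have hu : IsUnit (2 : k) := isUnit_iff_ne_zero.2 h2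
    have := hu.map (Scheme.ΓSpecIso (CommRingCat.of k)).inv.hom
    rw [map_ofNat] at this
    rw [Nat.card_eq_fintype_card, show Fintype.card (ULift.{u} (Equiv.Perm (Fin 2))) = 2 from rfl, Nat.cast_ofNat]
    exact this
  haveI : UniversallyClosed (S ↘ Spec (CommRingCat.of k)) := UniversallyClosed.of_comp_surjective π _
  exact ⟨⟩

include hπ in
theorem isIntegral_quot [IsIntegral (Sq k C)] : IsIntegral S := by
  have hs := Groth.L27.Quot.surjective hπ
  haveI : IsReduced S := ⟨fun U => isReduced_of_injective (π.app U).hom (hπ.injective U)⟩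
  haveI : IrreducibleSpace ↥S := by
    have hi : IsIrreducible (Set.univ : Set ↥S) := by
      have := (IrreducibleSpace.isIrreducible_univ ↥(Sq k C)).image π π.continuous.continuousOn
      rwa [Set.image_univ, hs.range_eq] at this
    haveI : PreirreducibleSpace ↥S := ⟨hi.isPreirreducible⟩
    exact ⟨hi.nonempty.to_type⟩
  exact isIntegral_of_irreducibleSpace_of_isReduced S

include hρ hπ hq h2 in
theorem dim_quot [IsProper (C ↘ Spec (CommRingCat.of k))] (hdim : topologicalKrullDim ↥C = 1) :
    topologicalKrullDim ↥S ≤ (2 : ℕ) := by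
  haveI := isFinite_proj hπ hq
  rw [← Groth.L00.topologicalKrullDim_eq_of_isClosedMap π.continuous π.isClosedMap (Groth.L27.Quot.surjective hπ)
    (fun a b hab e => ?_)]
  · exact Groth.L12.HypSq.dim_sq hdim
  · obtain ⟨g, hg⟩ := Groth.L27.Quot.exists_eq_of_map_eq hπ e
    rcases perm_eq g with rfl | rfl
    · rw [Groth.L27.Quot.hom_one] at hg
      exact hg
    · rw [hρ] at hg
      have h1 := hab.map (swap (k := k) (C := C)).continuous
      rw [hg] at h1
      have hinv : swap (k := k) (C := C) b = a := by
        rw [← hg, ← Scheme.Hom.comp_apply, (invQuot hρ hπ hq h2).invol]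
        rfl
      rw [hinv] at h1
      exact (hab.antisymm h1).eq

variable [IsProper (C ↘ Spec (CommRingCat.of k))] [Smooth (C ↘ Spec (CommRingCat.of k))] [ConnectedSpace ↥C]
  [IsAlgClosed k] {ND : (Sq k C).Modules} (hND : PicF.IsInvertible ND)
  (hNDinv : ClSub.IsInverseOf ND (ClSub.idealMod (graph (k := k) (f := 𝟙 C) (Category.id_comp _)).ker))

include hND hNDinv in
theorem isInvertible_diag_ideal :
    PicF.IsInvertible (ClSub.idealMod (graph (k := k) (f := 𝟙 C) (Category.id_comp _)).ker) := by
  obtain ⟨i⟩ := hNDinv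
  exact Groth.L16.NegPow.isInvertible_inverse hND i

include hND hNDinv in
theorem isInvertible_anti : PicF.IsInvertible (invQuot hρ hπ hq h2).anti := by
  haveI := Groth.L21.RR.isNoetherian_of_proper (X := Sq k C) k
  exact (invQuot hρ hπ hq h2).isInvertible_anti isFixedScheme_diag (isInvertible_diag_ideal hND hNDinv)
    (Groth.L27.Quot.surjective hπ)

include hND hNDinv in
theorem nonempty_pullback_anti : Nonempty ((Scheme.Modules.pullback π).obj (invQuot hρ hπ hq h2).anti ≅
    ClSub.idealMod (graph (k := k) (f := 𝟙 C) (Category.id_comp _)).ker) := by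
  haveI := Groth.L21.RR.isNoetherian_of_proper (X := Sq k C) k
  exact (invQuot hρ hπ hq h2).nonempty_pullback_anti isFixedScheme_diag (isInvertible_diag_ideal hND hNDinv)

include hρ hπ hq h2 hND hNDinv in
theorem h_pullback [IsProper (S ↘ Spec (CommRingCat.of k))] {M : S.Modules} (hM : PicF.IsInvertible M) (n : ℕ) :
    Groth.L21.RR.h k n ((Scheme.Modules.pullback π).obj M) = Groth.L21.RR.h k n M +
      Groth.L21.RR.h k n (CohB1.tensorMod M (invQuot hρ hπ hq h2).anti) := by
  haveI : S.IsSeparated := ⟨by
    rw [show terminal.from S = (S ↘ Spec (CommRingCat.of k)) ≫ terminal.from _ from terminal.hom_ext _ _]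
    infer_instance⟩
  exact (invQuot hρ hπ hq h2).h_pullback hq hM (isInvertible_anti hρ hπ hq h2 hND hNDinv) n

end Groth.L12.SymSq
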