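import Groth.Agent.L12.SymSq.Main
import Groth.Agent.L17.ChangeRings
import Groth.Agent.L22.PDual.Hn
import Mathlib.AlgebraicGeometry.Morphisms.Proper

/-! Intersection numbers and the injectivity of pullback on the symmetric square. -/

set_option autoImplicit false
set_option linter.style.haveILetI false
set_option linter.unusedSectionVars false
set_option backward.isDefEq.respectTransparency false
set_option backward.isDefEq.respectTransparency.types false

universe u

open CategoryTheory CategoryTheory.Limits AlgebraicGeometry TopologicalSpace Opposite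

noncomputable section

namespace Groth.L12.SymSq

open Groth.L12.HypSq (Sq graph box tw boxPow pencil)
open Groth.L21.RR (euler_congr deg_congr)
open Groth.L00.Tensor
open Groth.L29.DC.PullTensor (pullTensor)

section Trivial

variable {k : Type u} [Field k] {X : Scheme.{u}} [X.Over (Spec (CommRingCat.of k))]
  [IsProper (X ↘ Spec (CommRingCat.of k))] [IsIntegral X]

include k in
/-- A non-zero endomorphism of the structure sheaf is invertible. -/
theorem isIso_of_endo_ne_zero (ψ : Coh.structureModule X ⟶ Coh.structureModule X) (hψ : ψ ≠ 0) : IsIso ψ := by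
  let c : Γ(X, ⊤) := ψ.app ⊤ (1 : Γ(X, ⊤))
  have hc : ∀ (W : X.Opens) (a : Γ(X, W)),
      (show Γ(X, W) from ψ.app W a) = a * (X.presheaf.map (homOfLE (le_top : W ≤ ⊤)).op) c := by
    intro W a
    have h1 : ψ.app W (1 : Γ(X, W)) = (X.presheaf.map (homOfLE (le_top : W ≤ ⊤)).op) c := by
      have h := congr($(ψ.mapPresheaf.naturality (homOfLE (le_top : W ≤ ⊤)).op) (1 : Γ(X, ⊤)))
      exact (congrArg (fun t => (show Γ(X, W) from ψ.app W t))
        (map_one (X.presheaf.map (homOfLE (le_top : W ≤ ⊤)).op).hom).symm).trans h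
    have h2 := ψ.app_smul (U := W) a (1 : Γ(X, W))
    refine Eq.trans ?_ (h2.trans (congrArg (fun t => a • t) h1))
    exact congrArg _ (mul_one a).symm
  have hc0 : c ≠ 0 := fun h0 => hψ <| Scheme.Modules.hom_ext _ _ fun W => by
    ext a
    exact (hc W a).trans (by rw [h0, map_zero, mul_zero]; rfl)
  letI := (isField_of_universallyClosed k (X ↘ Spec (CommRingCat.of k))).toField
  have hu : IsUnit c := isUnit_iff_ne_zero.2 hc0
  refine Groth.L17.BC.Classes.isIso_of_affine ψ fun x => ⟨⊤, trivial, fun W _ _ => ?_⟩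
  obtain ⟨d, hd⟩ := hu.map (X.presheaf.map (homOfLE (le_top : W ≤ ⊤)).op).hom
  refine ⟨fun a b hab => ?_, fun b => ⟨(show Γ(X, W) from b) * (↑d⁻¹ : Γ(X, W)), ?_⟩⟩
  · have := (hc W a).symm.trans (hab.trans (hc W b))
    rw [← hd] at this
    exact d.mul_left_inj.1 this
  · exact (hc W _).trans (by rw [← hd, mul_assoc, Units.inv_mul, mul_one])

include k in
/-- An invertible module with sections whose inverse has sections is trivial. -/
theorem nonempty_iso_of_sections {M M' : X.Modules} (hM : PicF.IsInvertible M) (hM' : PicF.IsInvertible M')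
    (e : CohB1.tensorMod M M' ≅ Coh.structureModule X) (h0 : Groth.L21.RR.h k 0 M ≠ 0)
    (h0' : Groth.L21.RR.h k 0 M' ≠ 0) : Nonempty (M ≅ Coh.structureModule X) := by
  haveI := Groth.L21.RR.isNoetherian_of_proper (X := X) k
  haveI : Nontrivial (Coh.HH X M 0) := by
    by_contra hn
    haveI := not_nontrivial_iff_subsingleton.1 hn
    exact h0 Module.finrank_zero_of_subsingleton
  haveI : Nontrivial (Coh.HH X M' 0) := by
    by_contra hn
    haveI := not_nontrivial_iff_subsingleton.1 hn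
    exact h0' Module.finrank_zero_of_subsingleton
  obtain ⟨φ, hφ⟩ := Groth.L21.RR.exists_hom_ne_zero (L := M)
  obtain ⟨χ, hχ⟩ := Groth.L21.RR.exists_hom_ne_zero (L := M')
  haveI : Mono χ := Groth.L22.PDual.mono_of_ne_zero (Groth.L18.Ample.isInvertible_structureModule X) hM' hχ
  haveI := Groth.L17.ChangeRings.preservesMono_tensorLeftF (Groth.L21.RR.isFlat_of_isInvertible hM)
  let ψ : M ⟶ Coh.structureModule X :=
    (tensorUnitRight M).inv ≫ (tensorLeftF M).map χ ≫ e.hom
  haveI : Mono ψ := mono_comp _ _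
  have hne : φ ≫ ψ ≠ 0 := fun h => hφ ((cancel_mono ψ).1 (h.trans zero_comp.symm))
  haveI := isIso_of_endo_ne_zero (k := k) (φ ≫ ψ) hne
  haveI : Epi ψ := epi_of_epi φ ψ
  haveI : IsIso ψ := isIso_of_mono_of_epi ψ
  exact ⟨asIso ψ⟩

include k in
/-- The ideal of a non-empty closed subscheme has no sections. -/
theorem h0_ideal_eq_zero {Z : Scheme.{u}} (j : Z ⟶ X) [IsClosedImmersion j] [Nonempty Z] :
    Groth.L21.RR.h k 0 (ClSub.idealMod j.ker) = 0 := by
  haveI : Subsingleton (Coh.HH X (ClSub.idealMod j.ker) 0) := by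
    letI := (isField_of_universallyClosed k (X ↘ Spec (CommRingCat.of k))).toField
    refine subsingleton_of_forall_eq 0 fun x => (Groth.L21.RR.e0 _).injective ?_
    obtain ⟨hinj, hiff⟩ := Groth.L18.IdealModule.exact_sections j.ker ⊤
    refine hinj ?_
    rw [map_zero, map_zero]
    by_contra hne
    let a : Γ(X, ⊤) := (ClSub.idealModι j.ker).app ⊤ (Groth.L21.RR.e0 (ClSub.idealMod j.ker) x)
    have ha : j.ker.subschemeι.app ⊤ a = 0 := (hiff a).2 ⟨_, rfl⟩
    have hu := (isUnit_iff_ne_zero.2 (show a ≠ 0 from hne)).map (j.ker.subschemeι.app ⊤).hom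
    rw [ha] at hu
    haveI : Nonempty j.ker.subscheme := ⟨j.toImage (Classical.arbitrary Z)⟩
    haveI : Nontrivial Γ(j.ker.subscheme, j.ker.subschemeι ⁻¹ᵁ (⊤ : X.Opens)) := by
      apply +allowSynthFailures Scheme.component_nontrivial
      exact ⟨⟨j.toImage (Classical.arbitrary Z), trivial⟩⟩
    exact not_isUnit_zero hu
  exact Module.finrank_zero_of_subsingleton

end Trivial

variable {k : Type u} [Field k] {C : Scheme.{u}} [C.Over (Spec (CommRingCat.of k))]
  [IsProper (C ↘ Spec (CommRingCat.of k))] [Smooth (C ↘ Spec (CommRingCat.of k))] [ConnectedSpace ↥C]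
  [IsAlgClosed k] (hdim : topologicalKrullDim ↥C = 1)
  {ND : (Sq k C).Modules} (hND : PicF.IsInvertible ND)
  (hNDinv : ClSub.IsInverseOf ND (ClSub.idealMod (graph (k := k) (f := 𝟙 C) (Category.id_comp _)).ker))
  {S : Scheme.{u}} {π : Sq k C ⟶ S} [S.Over (Spec (CommRingCat.of k))]
  {ρ : ULift.{u} (Equiv.Perm (Fin 2)) →* Aut (Sq k C)}
  (hρ : (ρ (ULift.up (Equiv.swap 0 1))).hom = swap (k := k) (C := C)) (hπ : SGA1.IsQuot ρ π)
  (hq : π ≫ (S ↘ Spec (CommRingCat.of k)) = (Sq k C) ↘ Spec (CommRingCat.of k))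
  (h2 : (2 : k) ≠ 0) [IsProper (S ↘ Spec (CommRingCat.of k))] [IsIntegral S]

include hdim hND hNDinv hρ hπ hq h2 in
/-- A class trivial upstairs has one section. -/
theorem h0_eq_one_of_pullback {M : S.Modules} (hM : PicF.IsInvertible M)
    (e : (Scheme.Modules.pullback π).obj M ≅ Coh.structureModule (Sq k C)) :
    Groth.L21.RR.h k 0 M = 1 := by
  haveI := HypSq.isIntegral (k := k) (C := C)
  haveI := HypSq.isIntegral_sq (k := k) (C := C)
  have hL := isInvertible_anti hρ hπ hq h2 hND hNDinv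
  obtain ⟨i⟩ := nonempty_pullback_anti hρ hπ hq h2 hND hNDinv
  have h1 := h_pullback hρ hπ hq h2 hND hNDinv hM 0
  rw [Groth.L21.RR.h_congr k e 0, Groth.L22.CurveDeg.h0_structure_eq_one k] at h1
  have h3 := h_pullback hρ hπ hq h2 hND hNDinv (Groth.L18.GenLoc.isInvertible_tensor hM hL) 0
  rw [Groth.L21.RR.h_congr k ((pullTensor π M _).symm ≪≫ tensorIso e i ≪≫ tensorUnitLeft _) 0,
    h0_ideal_eq_zero (k := k)] at h3
  omega

include hdim hND hNDinv hρ hπ hq h2 in
/-- Pullback to the square is injective on invertible modules. -/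
theorem nonempty_iso_of_pullback {M M' : S.Modules} (hM : PicF.IsInvertible M) (hM' : PicF.IsInvertible M')
    (e : (Scheme.Modules.pullback π).obj M ≅ (Scheme.Modules.pullback π).obj M') : Nonempty (M ≅ M') := by
  obtain ⟨R, hR, ⟨j⟩⟩ := Groth.L08.Cube.exists_inverse hM'
  have hQ := Groth.L18.GenLoc.isInvertible_tensor hM hR
  let eQ : (Scheme.Modules.pullback π).obj (CohB1.tensorMod M R) ≅ Coh.structureModule (Sq k C) :=
    (pullTensor π M R).symm ≪≫ tensorIso e (Iso.refl _) ≪≫ pullTensor π M' R ≪≫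
      (Scheme.Modules.pullback π).mapIso j ≪≫ Groth.L29.LocFree.pullbackUnitIso π
  obtain ⟨Q', hQ', ⟨l⟩⟩ := Groth.L08.Cube.exists_inverse hQ
  let eQ' : (Scheme.Modules.pullback π).obj Q' ≅ Coh.structureModule (Sq k C) :=
    (tensorUnitLeft _).symm ≪≫ tensorIso eQ.symm (Iso.refl _) ≪≫ pullTensor π _ Q' ≪≫
      (Scheme.Modules.pullback π).mapIso l ≪≫ Groth.L29.LocFree.pullbackUnitIso π
  obtain ⟨t⟩ := nonempty_iso_of_sections (k := k) hQ hQ' l
    (by rw [h0_eq_one_of_pullback hdim hND hNDinv hρ hπ hq h2 hQ eQ]; exact one_ne_zero)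
    (by rw [h0_eq_one_of_pullback hdim hND hNDinv hρ hπ hq h2 hQ' eQ']; exact one_ne_zero)
  exact ⟨(tensorUnitRight M).symm ≪≫ tensorIso (Iso.refl M) (j.symm ≪≫ tensorComm M' R) ≪≫
    (tensorAssoc M R M').symm ≪≫ tensorIso t (Iso.refl M') ≪≫ tensorUnitLeft M'⟩

section Table

variable {κ : C ⟶ CohB1.ProjSpace 1 k} [IsFinite κ] [Flat κ]
  (hκ : κ ≫ CohB1.ProjSpace.toSpec 1 k = (C ↘ Spec (CommRingCat.of k)))
  (hκ2 : ∀ y : ↥(CohB1.ProjSpace 1 k), κ.finrank y = 2)
  {σ : C ⟶ C} (hσ : σ ≫ κ = κ) (hσ1 : σ ≠ 𝟙 C)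
  (hσp : σ ≫ (C ↘ Spec (CommRingCat.of k)) = C ↘ Spec (CommRingCat.of k))
  {N : (Sq k C).Modules} (hN : PicF.IsInvertible N)
  (hNinv : ClSub.IsInverseOf N (ClSub.idealMod (graph hσp).ker))

include hdim in
theorem intNum_box_self {A : C.Modules} (hA : PicF.IsInvertible A) (hd : Curv2.deg k C A 1 = 1) :
    FGA.intNum k (Sq k C) 2 ![box (k := k) A A, box (k := k) A A] (Coh.structureModule (Sq k C)) = 2 := by
  haveI := HypSq.isIntegral (k := k) (C := C)
  have hAA := Groth.L18.GenLoc.isInvertible_tensor hA hA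
  rw [HypSq.intNum_two (HypSq.dim_sq hdim), HypSq.euler_sq_structure hdim,
    euler_congr k (HypSq.boxMulIso A A A A), HypSq.euler_box hdim hA hA, HypSq.euler_box hdim hAA hAA,
    HypSq.euler_eq_deg hdim (CohB1.tensorMod A A), Groth.L21.Duality.deg_tensor hdim hA hA,
    HypSq.euler_eq_deg hdim A, hd]
  ring

theorem intNum_box_graph {f : C ⟶ C} [IsIso f]
    (hf : f ≫ (C ↘ Spec (CommRingCat.of k)) = C ↘ Spec (CommRingCat.of k))
    (hdim : topologicalKrullDim ↥C = 1)
    {F : (Sq k C).Modules} (hF : PicF.IsInvertible F) (hFinv : ClSub.IsInverseOf F (ClSub.idealMod (graph hf).ker))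
    {A : C.Modules} (hA : PicF.IsInvertible A) (hd : Curv2.deg k C A 1 = 1)
    (hd' : Curv2.deg k C ((Scheme.Modules.pullback f).obj A) 1 = 1) :
    FGA.intNum k (Sq k C) 2 ![box (k := k) A A, F] (Coh.structureModule (Sq k C)) = 2 := by
  have h1 := HypSq.euler_graphPow hdim hf hF hFinv 1
  rw [euler_congr k (tensorPowOne F)] at h1
  rw [HypSq.intNum_two (HypSq.dim_sq hdim), HypSq.euler_sq_structure hdim, h1,
    ← euler_congr k (show tw (box (k := k) A A) F 1 ≅ _ from tensorIso (Iso.refl _) (tensorPowOne F)),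
    HypSq.euler_tw hf hF hFinv hdim hA hA, HypSq.euler_box hdim hA hA, hd, hd']
  push_cast
  ring

include hdim hκ hκ2 hσ hσ1 hσp hN hNinv hND hNDinv in
theorem intNum_diag_graph :
    FGA.intNum k (Sq k C) 2 ![ND, N] (Coh.structureModule (Sq k C)) = 2 * (Curv2.genus k C : ℤ) + 2 := by
  haveI := HypSq.isIso_of_comp_eq hdim hκ hκ2 hσ hσp
  obtain ⟨t⟩ := HypSq.nonempty_diag_add_graph hdim hκ hκ2 hσ hσ1 hσp hN hNinv hND hNDinv
  have hL := HypSq.isInvertible_pencil κ
  have h1 := HypSq.euler_graphPow hdim hσp hN hNinv 1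
  rw [euler_congr k (tensorPowOne N)] at h1
  have h2' := HypSq.euler_graphPow hdim (f := 𝟙 C) (Category.id_comp _) hND hNDinv 1
  rw [euler_congr k (tensorPowOne ND)] at h2'
  rw [HypSq.intNum_two (HypSq.dim_sq hdim), HypSq.euler_sq_structure hdim, h1, h2', euler_congr k t,
    HypSq.euler_box hdim hL hL, HypSq.euler_eq_deg hdim, HypSq.deg_pencil hdim hκ hκ2]
  push_cast
  ring

include hdim hκ hκ2 hσ hσ1 hσp hN hNinv hND hNDinv hρ hπ hq h2 in
/-- The intersection table of the symmetric square. -/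
theorem table {A : C.Modules} (hA : PicF.IsInvertible A) (hd : Curv2.deg k C A 1 = 1) {MΘ MΔ MV : S.Modules}
    (hMΘ : PicF.IsInvertible MΘ) (hMΔ : PicF.IsInvertible MΔ) (hMV : PicF.IsInvertible MV)
    (eΘ : (Scheme.Modules.pullback π).obj MΘ ≅ box (k := k) A A)
    (eΔ : (Scheme.Modules.pullback π).obj MΔ ≅ CohB1.tensorMod ND ND)
    (eV : (Scheme.Modules.pullback π).obj MV ≅ N) :
    FGA.intNum k S 2 ![MΘ, MΘ] (Coh.structureModule S) = 1 ∧
      FGA.intNum k S 2 ![MΘ, MΔ] (Coh.structureModule S) = 2 ∧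
      FGA.intNum k S 2 ![MΘ, MV] (Coh.structureModule S) = 1 ∧
      FGA.intNum k S 2 ![MΔ, MΔ] (Coh.structureModule S) = 4 - 4 * (Curv2.genus k C : ℤ) ∧
      FGA.intNum k S 2 ![MV, MV] (Coh.structureModule S) = 1 - (Curv2.genus k C : ℤ) ∧
      FGA.intNum k S 2 ![MΔ, MV] (Coh.structureModule S) = 2 * (Curv2.genus k C : ℤ) + 2 := by
  haveI := HypSq.isIso_of_comp_eq hdim hκ hκ2 hσ hσp
  haveI := HypSq.isIntegral_sq (k := k) (C := C)
  have hB : PicF.IsInvertible (box (k := k) A A) := HypSq.isInvertible_box hA hA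
  have hd2 := HypSq.dim_sq (k := k) hdim
  have key := fun {P Q : S.Modules} (hP : PicF.IsInvertible P) (hQ : PicF.IsInvertible Q)
      {P' Q' : (Sq k C).Modules} (p : (Scheme.Modules.pullback π).obj P ≅ P')
      (q : (Scheme.Modules.pullback π).obj Q ≅ Q') =>
    two_mul_intNum hρ hπ hq h2 hdim hND hNDinv hP hQ p q
  have dbl : ∀ {G : (Sq k C).Modules}, PicF.IsInvertible G →
      FGA.intNum k (Sq k C) 2 ![G, CohB1.tensorMod ND ND] (Coh.structureModule (Sq k C)) =
        2 * FGA.intNum k (Sq k C) 2 ![G, ND] (Coh.structureModule (Sq k C)) := fun {G} hG => by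
    have h1 := Groth.L22.Big.intNum_eq_ii k hd2 G (CohB1.tensorMod ND ND)
    have h3 := Groth.L22.Big.intNum_eq_ii k hd2 G ND
    rw [Groth.L22.Big.ii_tensor_right k hd2 hG hND hND, ← h3, ← two_mul] at h1
    exact_mod_cast h1
  have symm : ∀ P Q : (Sq k C).Modules, FGA.intNum k (Sq k C) 2 ![P, Q] (Coh.structureModule (Sq k C)) =
      FGA.intNum k (Sq k C) 2 ![Q, P] (Coh.structureModule (Sq k C)) := fun P Q => by
    rw [HypSq.intNum_two hd2, HypSq.intNum_two hd2, euler_congr k (tensorComm P Q)]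
    ring
  have hid : Curv2.deg k C ((Scheme.Modules.pullback (𝟙 C)).obj A) 1 = 1 :=
    (deg_congr k ((Scheme.Modules.pullbackId C).app A) 1).trans hd
  refine ⟨?_, ?_, ?_, ?_, ?_, ?_⟩
  · have := key hMΘ hMΘ eΘ eΘ
    rw [intNum_box_self hdim hA hd] at this
    omega
  · have := key hMΘ hMΔ eΘ eΔ
    rw [dbl hB, intNum_box_graph (Category.id_comp _) hdim hND hNDinv hA hd hid] at this
    omega
  · have := key hMΘ hMV eΘ eV
    rw [intNum_box_graph hσp hdim hN hNinv hA hd
      ((HypSq.deg_pullback_eq hdim hκ hκ2 hσ hσp hA).trans hd)] at this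
    omega
  · have := key hMΔ hMΔ eΔ eΔ
    rw [dbl (Groth.L18.GenLoc.isInvertible_tensor hND hND), symm, dbl hND,
      HypSq.intNum_graph_self hdim (Category.id_comp _) hND hNDinv] at this
    omega
  · have := key hMV hMV eV eV
    rw [HypSq.intNum_graph_self hdim hσp hN hNinv] at this
    omega
  · have := key hMΔ hMV eΔ eV
    rw [symm, dbl hN, symm, intNum_diag_graph hdim hND hNDinv hκ hκ2 hσ hσ1 hσp hN hNinv] at this
    omega

end Table

end Groth.L12.SymSq
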