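import Groth.Agent.L12.SymSq.Invol
import Groth.Agent.L18.Ample
import Groth.Agent.L07.PrinParts.GrBaseChange
import Mathlib.AlgebraicGeometry.Noetherian

/-! The anti-invariant part of a quotient by an involution pulls back to the ideal of the fixed scheme. -/

set_option autoImplicit false
set_option linter.style.haveILetI false
set_option linter.unusedSectionVars false
set_option backward.isDefEq.respectTransparency false
set_option backward.isDefEq.respectTransparency.types false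

universe u

open CategoryTheory CategoryTheory.Limits AlgebraicGeometry TopologicalSpace Opposite

noncomputable section

namespace Groth.L12.SymSq

open Groth.L18.Frame (rs ro IsFrame pull rs_rs rs_self rs_smul ro_ro ro_self ro_mul)

variable {X S Z : Scheme.{u}} {π : X ⟶ S} {τ : X ⟶ X}

/-- A closed immersion onto the fixed scheme of an endomorphism. -/
structure IsFixedScheme (τ : X ⟶ X) (Δ : Z ⟶ X) : Prop where
  immersion : IsClosedImmersion Δ
  comp : Δ ≫ τ = Δ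
  univ : ∀ {T : Scheme.{u}} (f : T ⟶ X), f ≫ τ = f → ∃ g : T ⟶ Z, g ≫ Δ = f

namespace InvQuot

variable (h : InvQuot π τ) {Δ : Z ⟶ X} (hΔ : IsFixedScheme τ Δ)

include hΔ in
theorem app_act (U : S.Opens) (s : Γ(X, π ⁻¹ᵁ U)) : Δ.app (π ⁻¹ᵁ U) (h.act U s) = Δ.app (π ⁻¹ᵁ U) s := by
  show (τ.appLE (π ⁻¹ᵁ U) (π ⁻¹ᵁ U) (h.le_preimage U) ≫ Δ.app (π ⁻¹ᵁ U)) s = _
  rw [Scheme.Hom.app_eq_appLE, Scheme.Hom.appLE_comp_appLE, Groth.L27.Quot.appLE_eq_of_eq hΔ.comp]

include h hΔ in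
theorem app_eq_zero_of_anti (U : S.Opens) (s : Γ(X, π ⁻¹ᵁ U)) (hs : h.act U s = -s) : Δ.app (π ⁻¹ᵁ U) s = 0 := by
  have e := h.app_act hΔ U s
  rw [hs, map_neg] at e
  have h2 : IsUnit (2 : Γ(Z, Δ ⁻¹ᵁ (π ⁻¹ᵁ U))) := by
    have := ((h.two_isUnit U).map (π.app U).hom).map (Δ.app (π ⁻¹ᵁ U)).hom
    rwa [map_ofNat, map_ofNat] at this
  refine h2.mul_left_cancel ?_
  rw [mul_zero, two_mul]
  exact (eq_neg_iff_add_eq_zero.1 e.symm)

include h hΔ in
/-- Anti-invariant sections vanish on the fixed scheme. -/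
theorem exists_ideal_section (U : S.Opens) (s : Γ(X, π ⁻¹ᵁ U)) (hs : h.act U s = -s) :
    ∃ m : Γ(ClSub.idealMod Δ.ker, π ⁻¹ᵁ U),
      (show Γ(X, π ⁻¹ᵁ U) from (ClSub.idealModι Δ.ker).app (π ⁻¹ᵁ U) m) = s := by
  haveI := hΔ.immersion
  refine ((Groth.L18.IdealModule.exact_sections Δ.ker (π ⁻¹ᵁ U)).2 s).1 ?_
  have e : Δ.toImage ≫ Δ.imageι = Δ := Δ.toImage_imageι
  have hb : Function.Injective (Δ.toImage.app (Δ.ker.subschemeι ⁻¹ᵁ (π ⁻¹ᵁ U))).hom :=
    (ConcreteCategory.bijective_of_isIso (Δ.toImage.app (Δ.ker.subschemeι ⁻¹ᵁ (π ⁻¹ᵁ U)))).1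
  refine hb ((Eq.trans ?_ (h.app_eq_zero_of_anti hΔ U s hs)).trans (map_zero _).symm)
  have := Scheme.Hom.congr_app e (π ⁻¹ᵁ U)
  have h2 := congr($this s)
  simp at h2
  exact Eq.trans h2 (congr($(Z.presheaf.map_id _) _))

/-- The ideal generated by the differences of sections and their images. -/
def diffIdeal (U : S.Opens) : Ideal Γ(X, π ⁻¹ᵁ U) := Ideal.span (Set.range fun b => b - h.act U b)

include hΔ in
/-- On an affine open the fixed scheme is cut out by the differences. -/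
theorem ideal_eq (U : S.Opens) (hV : IsAffineOpen (π ⁻¹ᵁ U)) :
    Δ.ker.ideal ⟨π ⁻¹ᵁ U, hV⟩ = h.diffIdeal U := by
  haveI := hΔ.immersion
  refine le_antisymm ?_ (Ideal.span_le.2 ?_)
  · intro a ha
    have ha' : Δ.app (π ⁻¹ᵁ U) a = 0 := Δ.ideal_ker_le ⟨_, hV⟩ ha
    let q : CommRingCat.of Γ(X, π ⁻¹ᵁ U) ⟶ CommRingCat.of (Γ(X, π ⁻¹ᵁ U) ⧸ h.diffIdeal U) :=
      CommRingCat.ofHom (Ideal.Quotient.mk (h.diffIdeal U))
    let f := Spec.map q ≫ hV.fromSpec
    have hf : f ≫ τ = f := by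
      have e := hV.SpecMap_appLE_fromSpec τ hV (h.le_preimage U)
      show (Spec.map q ≫ hV.fromSpec) ≫ τ = Spec.map q ≫ hV.fromSpec
      rw [Category.assoc, ← e, ← Category.assoc, ← Spec.map_comp]
      congr 2
      ext b
      show Ideal.Quotient.mk _ (h.act U b) = Ideal.Quotient.mk _ b
      exact (Ideal.Quotient.eq.2 (show b - h.act U b ∈ h.diffIdeal U from Ideal.subset_span ⟨b, rfl⟩)).symm
    obtain ⟨g, hg⟩ := hΔ.univ f hf
    have h0 : f.app (π ⁻¹ᵁ U) a = 0 := by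
      have := congr($(Scheme.Hom.congr_app hg.symm (π ⁻¹ᵁ U)) a)
      rw [this]
      simp [ha']
    simp only [f, Scheme.Hom.comp_app, hV.fromSpec_app_self, CommRingCat.comp_apply] at h0
    have hnat := congr($(Scheme.ΓSpecIso_inv_naturality q) a)
    refine Ideal.Quotient.eq_zero_iff_mem.1 ((ConcreteCategory.bijective_of_isIso
      (Scheme.ΓSpecIso (CommRingCat.of (Γ(X, π ⁻¹ᵁ U) ⧸ h.diffIdeal U))).inv).1 ?_)
    rw [map_zero]
    refine Eq.trans hnat ?_
    refine (ConcreteCategory.bijective_of_isIso ((Spec (CommRingCat.of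
      (Γ(X, π ⁻¹ᵁ U) ⧸ h.diffIdeal U))).presheaf.map (eqToHom (show Spec.map q ⁻¹ᵁ (hV.fromSpec ⁻¹ᵁ (π ⁻¹ᵁ U)) = ⊤ by
        rw [hV.fromSpec_preimage_self, Scheme.Hom.preimage_top])).op)).1 ?_
    rw [map_zero]
    refine Eq.trans ?_ h0
    simp [Scheme.Hom.appTop]
    exact congr($(((Spec.map q).naturality
      (eqToHom (show hV.fromSpec ⁻¹ᵁ (π ⁻¹ᵁ U) = ⊤ from hV.fromSpec_preimage_self)).op).symm)
      ((Scheme.ΓSpecIso Γ(X, π ⁻¹ᵁ U)).inv a))
  · rintro _ ⟨b, rfl⟩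
    obtain ⟨m, hm⟩ := h.exists_ideal_section hΔ U (b - h.act U b) (by rw [map_sub, h.act_act, neg_sub])
    exact (Groth.L18.IdealModule.mem_ideal_iff Δ.ker hV _).2 ⟨m, hm⟩

variable [IsLocallyNoetherian X] (hI : PicF.IsInvertible (ClSub.idealMod Δ.ker))

include hΔ hI in
/-- Locally one difference generates the ideal. -/
theorem exists_gen (U : S.Opens) (hU : IsAffineOpen U) (x : X) (hx : π x ∈ U) :
    ∃ (d : Γ(X, π ⁻¹ᵁ U)) (a : Γ(S, U)), h.act U d = -d ∧ π x ∈ S.basicOpen a ∧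
      ∀ j ∈ h.diffIdeal U, ∃ (n : ℕ) (b : Γ(X, π ⁻¹ᵁ U)), π.app U a ^ n * j = b * d := by
  haveI := h.affine
  have hV : IsAffineOpen (π ⁻¹ᵁ U) := hU.preimage π
  haveI : IsNoetherianRing Γ(X, π ⁻¹ᵁ U) := IsLocallyNoetherian.component_noetherian ⟨_, hV⟩
  obtain ⟨W, e, hxW, he⟩ := Groth.L18.Frame.exists_frame hI x
  obtain ⟨f, hfW, hxf⟩ := hV.exists_basicOpen_le (V := W) ⟨x, hxW⟩ hx
  let D := X.basicOpen f
  have hD : IsAffineOpen D := hV.basicOpen f
  have hDV : D ≤ π ⁻¹ᵁ U := X.basicOpen_le f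
  let ρ := (X.presheaf.map (homOfLE hDV).op).hom
  let e' := rs (ClSub.idealMod Δ.ker) hfW e
  let ε : Γ(X, D) := (ClSub.idealModι Δ.ker).app D e'
  have hε : ε ∈ (h.diffIdeal U).map ρ := by
    rw [← h.ideal_eq hΔ U hV]
    refine (Scheme.IdealSheafData.map_ideal Δ.ker (U := ⟨D, hD⟩) (V := ⟨π ⁻¹ᵁ U, hV⟩) hDV).ge ?_
    exact (Groth.L18.IdealModule.mem_ideal_iff Δ.ker hD _).2 ⟨e', rfl⟩
  have hgen : ∀ b ∈ h.diffIdeal U, ∃ u : Γ(X, D), ρ b = u * ε := fun b hb => by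
    rw [← h.ideal_eq hΔ U hV] at hb
    have := (Scheme.IdealSheafData.map_ideal Δ.ker (U := ⟨D, hD⟩) (V := ⟨π ⁻¹ᵁ U, hV⟩) hDV).le (Ideal.mem_map_of_mem _ hb)
    obtain ⟨m, hm⟩ := (Groth.L18.IdealModule.mem_ideal_iff Δ.ker hD _).1 this
    obtain ⟨u, hu⟩ := (he.mono hfW).exists_coeff le_rfl m
    rw [rs_self] at hu
    refine ⟨u, hm.symm.trans ?_⟩
    rw [← hu]
    exact Scheme.Modules.Hom.app_smul _ _ _
  have key : ∃ b, ∃ u : Γ(X, D), ρ (b - h.act U b) = u * ε ∧ x ∈ X.basicOpen u := by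
    by_contra hno
    push Not at hno
    have hle : ∀ r ∈ (h.diffIdeal U).map ρ, ∃ u : Γ(X, D), r = u * ε ∧ x ∉ X.basicOpen u := by
      intro r hr
      rw [diffIdeal, Ideal.map_span, ← Set.range_comp] at hr
      refine Submodule.span_induction ?_ ?_ ?_ ?_ hr
      · rintro _ ⟨b, rfl⟩
        obtain ⟨u, hu⟩ := hgen (b - h.act U b) (Ideal.subset_span ⟨b, rfl⟩)
        exact ⟨u, hu, hno b u hu⟩
      · exact ⟨0, (zero_mul _).symm, by rw [Scheme.basicOpen_zero]; exact fun h' => h'⟩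
      · rintro _ _ - - ⟨u, rfl, hu⟩ ⟨v, rfl, hv⟩
        exact ⟨u + v, (add_mul _ _ _).symm, fun h' => ((X.basicOpen_add_le u v) h').elim hu hv⟩
      · rintro r _ - ⟨u, rfl, hu⟩
        exact ⟨r * u, by simp [mul_assoc], fun h' => hu (X.basicOpen_mul r u ▸ h').2⟩
    obtain ⟨u, hu, hxu⟩ := hle ε hε
    refine hxu ?_
    have h1 : (1 : Γ(X, D)) • e' = u • e' := by
      refine (Groth.L18.IdealModule.exact_sections Δ.ker D).1 ?_
      rw [Scheme.Modules.Hom.app_smul, Scheme.Modules.Hom.app_smul, one_smul]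
      exact hu
    have h1' := (he.mono hfW).inj (le_rfl : D ≤ D) (a := 1) (b := u) (by rw [rs_self]; exact h1)
    rw [← h1', Scheme.basicOpen_of_isUnit _ isUnit_one]
    exact hxf
  obtain ⟨b, u, hu, hxu⟩ := key
  let d := b - h.act U b
  let a : Ideal Γ(X, π ⁻¹ᵁ U) :=
    { carrier := {c | ∀ j ∈ h.diffIdeal U, ∃ (n : ℕ) (w : Γ(X, π ⁻¹ᵁ U)), c ^ n * j = w * d}
      add_mem' := fun {c c'} hc hc' j hj => by
        obtain ⟨n, w, hw⟩ := hc j hj
        obtain ⟨n', w', hw'⟩ := hc' j hj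
        have : (c + c') ^ (n + n') * j ∈ Ideal.span {d} := by
          rw [add_pow, Finset.sum_mul]
          refine Ideal.sum_mem _ fun i hi => ?_
          rcases le_or_gt n i with hi' | hi'
          · obtain ⟨l, rfl⟩ := Nat.exists_eq_add_of_le hi'
            exact Ideal.mem_span_singleton'.2 ⟨w * (c ^ l * c' ^ (n + n' - (n + l)) * ((n + n').choose (n + l))),
              by rw [mul_right_comm, ← hw, pow_add]; ring⟩
          · obtain ⟨l, hl⟩ := Nat.exists_eq_add_of_le (show n' ≤ n + n' - i by omega)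
            exact Ideal.mem_span_singleton'.2 ⟨w' * (c ^ i * c' ^ l * ((n + n').choose i)),
              by rw [hl, mul_right_comm, ← hw', pow_add]; ring⟩
        obtain ⟨w'', hw''⟩ := Ideal.mem_span_singleton'.1 this
        exact ⟨n + n', w'', hw''.symm⟩
      zero_mem' := fun j _ => ⟨1, 0, by simp⟩
      smul_mem' := fun r c hc j hj => by
        obtain ⟨n, w, hw⟩ := hc j hj
        exact ⟨n, r ^ n * w, by rw [smul_eq_mul, mul_pow, mul_assoc, hw, mul_assoc]⟩ }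
  have hd : h.act U d = -d := by show h.act U (b - h.act U b) = _; rw [map_sub, h.act_act, neg_sub]
  have hact : ∀ j ∈ h.diffIdeal U, h.act U j ∈ h.diffIdeal U := by
    intro j hj
    have := Ideal.mem_map_of_mem (h.act U) hj
    refine (Ideal.map_le_iff_le_comap.2 (Ideal.span_le.2 ?_)) this
    rintro _ ⟨b, rfl⟩
    show h.act U (b - h.act U b) ∈ h.diffIdeal U
    rw [map_sub, h.act_act]
    exact Ideal.subset_span ⟨h.act U b, by show h.act U b - h.act U (h.act U b) = _; rw [h.act_act]⟩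
  have hstab : ∀ c ∈ a, h.act U c ∈ a := fun c hc j hj => by
    obtain ⟨n, w, hw⟩ := hc (h.act U j) (hact j hj)
    refine ⟨n, -h.act U w, ?_⟩
    have := congr(h.act U $hw)
    rw [map_mul, map_pow, h.act_act, map_mul, hd] at this
    rw [this, mul_neg, neg_mul]
  obtain ⟨c₀, hc₀, hxc₀⟩ : ∃ c ∈ a, x ∈ X.basicOpen c := by
    haveI := hV.isLocalization_basicOpen f
    obtain ⟨u', n, hu'⟩ : ∃ (u' : Γ(X, π ⁻¹ᵁ U)) (n : ℕ), u * ρ f ^ n = ρ u' := by
      obtain ⟨⟨u', ⟨_, n, rfl⟩⟩, hu'⟩ := IsLocalization.surj (Submonoid.powers f) u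
      refine ⟨u', n, ?_⟩
      rw [← map_pow]
      exact hu'
    refine ⟨u' * f, fun j hj => ?_, ?_⟩
    · obtain ⟨v, hv⟩ := hgen j hj
      obtain ⟨⟨v', ⟨_, n', rfl⟩⟩, hv'⟩ := IsLocalization.surj (Submonoid.powers f) v
      have hv'' : v * ρ f ^ n' = ρ v' := by rw [← map_pow]; exact hv'
      have heq : ρ (u' * f ^ n' * j) = ρ (v' * f ^ n * d) := by
        simp only [map_mul, map_pow]
        rw [← hu', ← hv'', hv, show ρ d = u * ε from hu]
        ring
      obtain ⟨⟨_, m, rfl⟩, hm⟩ := IsLocalization.exists_of_eq (M := Submonoid.powers f) (S := Γ(X, D)) heq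
      refine ⟨n' + m + 1, u' ^ (n' + m) * f * f ^ n * v' * f ^ m * 1, ?_⟩
      calc (u' * f) ^ (n' + m + 1) * j = u' ^ (n' + m) * f * (f ^ m * (u' * f ^ n' * j)) := by ring
        _ = _ := by rw [show f ^ m * (u' * f ^ n' * j) = f ^ m * (v' * f ^ n * d) from hm]; ring
    · rw [Scheme.basicOpen_mul]
      refine ⟨?_, hxf⟩
      have h3 : x ∈ X.basicOpen (u * ρ f ^ n) := by
        rw [Scheme.basicOpen_mul]
        refine ⟨hxu, ?_⟩
        rcases n with - | n
        · rw [pow_zero, Scheme.basicOpen_of_isUnit _ isUnit_one]; exact hxf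
        · rw [X.basicOpen_pow _ n.succ_pos]
          exact (Scheme.basicOpen_res _ _ _).ge ⟨hxf, hxf⟩
      rw [hu'] at h3
      exact ((Scheme.basicOpen_res _ _ _).le h3).2
  have hτx : τ x ∈ π ⁻¹ᵁ U := h.le_preimage U hx
  have hmem : ∀ c, (x ∈ X.basicOpen (h.act U c) ↔ τ x ∈ X.basicOpen c) := fun c => by
    show x ∈ X.basicOpen ((τ.appLE (π ⁻¹ᵁ U) (π ⁻¹ᵁ U) (h.le_preimage U)) c) ↔ _
    rw [Scheme.basicOpen_appLE]
    exact ⟨fun h' => h'.2, fun h' => ⟨hx, h'⟩⟩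
  have hxx : τ (τ x) = x := by rw [← Scheme.Hom.comp_apply, h.invol]; rfl
  obtain ⟨c, hc, hxc, hxc'⟩ : ∃ c ∈ a, x ∈ X.basicOpen c ∧ τ x ∈ X.basicOpen c := by
    by_cases h1 : τ x ∈ X.basicOpen c₀
    · exact ⟨c₀, hc₀, hxc₀, h1⟩
    · have h3 : τ x ∈ X.basicOpen (h.act U c₀) := by
        show τ x ∈ X.basicOpen ((τ.appLE (π ⁻¹ᵁ U) (π ⁻¹ᵁ U) (h.le_preimage U)) c₀)
        rw [Scheme.basicOpen_appLE]
        exact ⟨hτx, show τ (τ x) ∈ X.basicOpen c₀ by rw [hxx]; exact hxc₀⟩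
      have h4 : x ∉ X.basicOpen (h.act U c₀) := fun h' => h1 ((hmem c₀).1 h')
      refine ⟨c₀ + h.act U c₀, a.add_mem hc₀ (hstab _ hc₀), ?_, ?_⟩
      · by_contra h5
        have := (X.basicOpen_add_le (c₀ + h.act U c₀) (-h.act U c₀)) (by rw [add_neg_cancel_right]; exact hxc₀)
        rcases this with h6 | h6
        · exact h5 h6
        · exact h4 (by rwa [show X.basicOpen (-h.act U c₀) = X.basicOpen (h.act U c₀) from by
            rw [← neg_one_mul, Scheme.basicOpen_mul, Scheme.basicOpen_of_isUnit _ isUnit_one.neg]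
            exact inf_eq_right.2 (X.basicOpen_le _)] at h6)
      · by_contra h5
        have := (X.basicOpen_add_le (c₀ + h.act U c₀) (-c₀)) (by rw [add_comm c₀, add_neg_cancel_right]; exact h3)
        rcases this with h6 | h6
        · exact h5 h6
        · exact h1 (by rwa [show X.basicOpen (-c₀) = X.basicOpen c₀ from by
            rw [← neg_one_mul, Scheme.basicOpen_mul, Scheme.basicOpen_of_isUnit _ isUnit_one.neg]
            exact inf_eq_right.2 (X.basicOpen_le _)] at h6)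
  obtain ⟨s, hs⟩ := h.range U (c * h.act U c) (by
    show h.act U (c * h.act U c) = c * h.act U c
    rw [map_mul, h.act_act, mul_comm])
  refine ⟨d, s, hd, ?_, fun j hj => ?_⟩
  · have : x ∈ π ⁻¹ᵁ S.basicOpen s := by
      rw [Scheme.preimage_basicOpen, hs, Scheme.basicOpen_mul]
      exact ⟨hxc, (hmem c).2 hxc'⟩
    exact this
  · obtain ⟨n, w, hw⟩ := hc j hj
    exact ⟨n, h.act U c ^ n * w, by rw [hs, mul_pow, mul_comm (c ^ n), mul_assoc, hw, mul_assoc]⟩

include hΔ hI in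
/-- Near every point the ideal and the anti-invariant part have compatible frames. -/
theorem exists_frames (x : X) : ∃ (V : S.Opens) (n : Γ(h.anti, V)) (m : Γ(ClSub.idealMod Δ.ker, π ⁻¹ᵁ V)),
    π x ∈ V ∧ IsFrame h.anti V n ∧ IsFrame (ClSub.idealMod Δ.ker) (π ⁻¹ᵁ V) m ∧
      (show Γ(X, π ⁻¹ᵁ V) from (ClSub.idealModι Δ.ker).app (π ⁻¹ᵁ V) m) =
        (show Γ(X, π ⁻¹ᵁ V) from h.antiι.app V n) := by
  haveI := h.affine
  obtain ⟨U, hU, hxU, -⟩ := exists_isAffineOpen_mem_and_subset (x := π x) (U := ⊤) trivial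
  have hV := hU.preimage π
  obtain ⟨d, a, hd, hxa, hgen⟩ := h.exists_gen hΔ hI U hU x hxU
  let V := S.basicOpen a
  have hVU : V ≤ U := S.basicOpen_le a
  have hle : π ⁻¹ᵁ V ≤ π ⁻¹ᵁ U := fun _ hz => hVU hz
  let d' : Γ(X, π ⁻¹ᵁ V) := ro hle d
  have hd' : h.act V d' = -d' := (h.act_map hVU d).trans (by rw [hd]; exact map_neg _ _)
  obtain ⟨m, hm⟩ := h.exists_ideal_section hΔ V d' hd'
  obtain ⟨n, hn⟩ := h.exists_of_act_eq_neg V d' hd'
  have hmf : IsFrame (ClSub.idealMod Δ.ker) (π ⁻¹ᵁ V) m := by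
    have hloc : ∀ z : ↥(π ⁻¹ᵁ V), ∃ (O : X.Opens) (hO : O ≤ π ⁻¹ᵁ V),
        z.1 ∈ O ∧ IsFrame (ClSub.idealMod Δ.ker) O (rs (ClSub.idealMod Δ.ker) hO m) := by
      intro z
      obtain ⟨W, e, hzW, he⟩ := Groth.L18.Frame.exists_frame hI z.1
      obtain ⟨W', hW', hzW', hW'le⟩ := exists_isAffineOpen_mem_and_subset (x := z.1) (U := W ⊓ π ⁻¹ᵁ V) ⟨hzW, z.2⟩
      have h1 : W' ≤ W := fun _ hy => (hW'le hy).1
      have h2 : W' ≤ π ⁻¹ᵁ V := fun _ hy => (hW'le hy).2
      let e' := rs (ClSub.idealMod Δ.ker) h1 e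
      obtain ⟨u, hu⟩ := (he.mono h1).exists_coeff le_rfl (rs (ClSub.idealMod Δ.ker) h2 m)
      rw [rs_self] at hu
      let ε : Γ(X, W') := (ClSub.idealModι Δ.ker).app W' e'
      have hdu : ro (h2.trans hle) d = u * ε := by
        rw [← ro_ro hle h2]
        show ro h2 d' = _
        rw [← hm]
        refine Eq.trans ?_ ((congrArg ((ClSub.idealModι Δ.ker).app W') hu).symm.trans
          (Scheme.Modules.Hom.app_smul _ _ _))
        exact (congr($((ClSub.idealModι Δ.ker).mapPresheaf.naturality (homOfLE h2).op) m)).symm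
      have hεI : ε ∈ Δ.ker.ideal ⟨W', hW'⟩ := (Groth.L18.IdealModule.mem_ideal_iff Δ.ker hW' _).2 ⟨e', rfl⟩
      rw [← Scheme.IdealSheafData.map_ideal Δ.ker (U := ⟨W', hW'⟩) (V := ⟨π ⁻¹ᵁ U, hV⟩) (h2.trans hle),
        h.ideal_eq hΔ U hV] at hεI
      have hmap : (h.diffIdeal U).map (X.presheaf.map (homOfLE (h2.trans hle)).op).hom ≤ Ideal.span {u * ε} := by
        refine Ideal.map_le_iff_le_comap.2 fun j hj => ?_
        obtain ⟨l, w, hw⟩ := hgen j hj
        have hau : IsUnit (ro (h2.trans hle) (π.app U a)) := by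
          have h0 : IsUnit (ro hle (π.app U a)) := by
            rw [← app_map hVU]
            exact (RingedSpace.isUnit_res_basicOpen _ a).map (π.app V).hom
          rw [← ro_ro hle h2]
          exact h0.map (X.presheaf.map (homOfLE h2).op).hom
        have hwj := congr((X.presheaf.map (homOfLE (h2.trans hle)).op).hom $hw)
        rw [map_mul, map_mul, map_pow] at hwj
        refine Ideal.mem_span_singleton'.2
          ⟨((hau.pow l).unit⁻¹ : Γ(X, W')ˣ) * ro (h2.trans hle) w, ?_⟩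
        rw [mul_assoc, ← hdu]
        refine (hau.pow l).mul_left_cancel ?_
        rw [← mul_assoc, (hau.pow l).mul_val_inv, one_mul]
        exact hwj.symm
      obtain ⟨w, hw⟩ := Ideal.mem_span_singleton'.1 (hmap hεI)
      have h3 : (w * u) • e' = (1 : Γ(X, W')) • e' := by
        refine (Groth.L18.IdealModule.exact_sections Δ.ker W').1 ?_
        rw [Scheme.Modules.Hom.app_smul, Scheme.Modules.Hom.app_smul, one_smul]
        show (w * u) * ε = ε
        rw [mul_assoc, hw]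
      have huu : IsUnit u := IsUnit.of_mul_eq_one_right w
        ((he.mono h1).inj (le_rfl : W' ≤ W') (a := w * u) (b := 1) (by rw [rs_self]; exact h3))
      refine ⟨W', h2, hzW', ?_⟩
      rw [← hu]
      exact (he.mono h1).smul_unit huu
    choose O hO hzO hOf using hloc
    exact IsFrame.of_cover O hO (fun z hz => Opens.mem_iSup.2 ⟨⟨z, hz⟩, hzO _⟩) hOf
  refine ⟨V, n, m, hxa, ?_, hmf, hm.trans hn.symm⟩
  intro O hO
  have hO' : π ⁻¹ᵁ O ≤ π ⁻¹ᵁ V := fun _ hz => hO hz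
  have hres : (show Γ(X, π ⁻¹ᵁ O) from h.antiι.app O (rs h.anti hO n)) = ro hO' d' := by
    refine (congr($(h.antiι.mapPresheaf.naturality (homOfLE hO).op) n)).trans ?_
    exact congrArg (ro hO') hn
  have hmres : (show Γ(X, π ⁻¹ᵁ O) from (ClSub.idealModι Δ.ker).app (π ⁻¹ᵁ O) (rs (ClSub.idealMod Δ.ker) hO' m)) =
      ro hO' d' :=
    (congr($((ClSub.idealModι Δ.ker).mapPresheaf.naturality (homOfLE hO').op) m)).trans (congrArg (ro hO') hm)
  have hsm : ∀ c : Γ(S, O), (show Γ(X, π ⁻¹ᵁ O) from h.antiι.app O (c • rs h.anti hO n)) = π.app O c * ro hO' d' := by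
    intro c
    rw [← hres]
    exact Scheme.Modules.Hom.app_smul h.antiι c _
  have hnz : ∀ b₁ b₂ : Γ(X, π ⁻¹ᵁ O), b₁ * ro hO' d' = b₂ * ro hO' d' → b₁ = b₂ := by
    intro b₁ b₂ hb
    refine hmf.inj hO' ((Groth.L18.IdealModule.exact_sections Δ.ker _).1 ?_)
    rw [Scheme.Modules.Hom.app_smul, Scheme.Modules.Hom.app_smul, ← hmres] at *
    exact hb
  refine ⟨fun c₁ c₂ hc => h.injective O (hnz _ _ ((hsm c₁).symm.trans
    ((congrArg (h.antiι.app O) hc).trans (hsm c₂)))), fun t => ?_⟩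
  obtain ⟨mt, hmt⟩ := h.exists_ideal_section hΔ O _ (h.act_antiι O t)
  obtain ⟨b, hb⟩ := hmf.exists_coeff hO' mt
  have ht : (show Γ(X, π ⁻¹ᵁ O) from h.antiι.app O t) = b * ro hO' d' := by
    rw [← hmt, ← hb, ← hmres]
    exact Scheme.Modules.Hom.app_smul _ _ _
  have hact : h.act O (ro hO' d') = -ro hO' d' := (h.act_map hO d').trans (by rw [hd']; exact map_neg _ _)
  have hbb : h.act O b = b := by
    refine hnz _ _ (neg_injective ?_)
    have := h.act_antiι O t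
    rw [ht, map_mul, hact] at this
    rw [← this]
    ring
  obtain ⟨c, hc⟩ := h.range O b hbb
  refine ⟨c, h.antiι_injective O ?_⟩
  exact (hsm c).trans ((congrArg (· * ro hO' d') hc).trans ht.symm)

variable (hsurj : Function.Surjective π)

include hΔ hI hsurj in
/-- The anti-invariant part is invertible. -/
theorem isInvertible_anti : PicF.IsInvertible h.anti := by
  refine Groth.L18.GenLoc.isInvertible_of_frames fun y => ?_
  obtain ⟨x, rfl⟩ := hsurj y
  obtain ⟨V, n, m, hxV, hn, -, -⟩ := h.exists_frames hΔ hI x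
  exact ⟨V, n, hxV, hn⟩

include hΔ hI in
/-- The anti-invariant part pulls back to the ideal of the fixed scheme. -/
theorem nonempty_pullback_anti :
    Nonempty ((Scheme.Modules.pullback π).obj h.anti ≅ ClSub.idealMod Δ.ker) := by
  let adj := Scheme.Modules.pullbackPushforwardAdjunction π
  let θ₀ := (adj.homEquiv h.anti (Coh.structureModule X)).symm h.antiι
  have hθ₀ : ∀ (V : S.Opens) (n : Γ(h.anti, V)), θ₀.app (π ⁻¹ᵁ V) (pull π h.anti V n) = h.antiι.app V n := by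
    intro V n
    have := (adj.homEquiv h.anti (Coh.structureModule X)).apply_symm_apply h.antiι
    rw [Adjunction.homEquiv_unit] at this
    exact congr($(congrArg (fun φ => Scheme.Modules.Hom.app φ V) this) n)
  have hz : θ₀ ≫ ClSub.toSubscheme Δ.ker = 0 := by
    refine Groth.L07.PrinParts.hom_ext_pull π _ _ fun U s => ?_
    obtain ⟨m, hm⟩ := h.exists_ideal_section hΔ U _ (h.act_antiι U s)
    show (ClSub.toSubscheme Δ.ker).app (π ⁻¹ᵁ U) (θ₀.app (π ⁻¹ᵁ U) (pull π h.anti U s)) = 0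
    rw [hθ₀]
    exact ((Groth.L18.IdealModule.exact_sections Δ.ker (π ⁻¹ᵁ U)).2 _).2 ⟨m, hm⟩
  let θ : (Scheme.Modules.pullback π).obj h.anti ⟶ ClSub.idealMod Δ.ker := kernel.lift _ θ₀ hz
  have hθ : θ ≫ ClSub.idealModι Δ.ker = θ₀ := kernel.lift_ι _ _ _
  haveI : IsIso θ := by
    refine Groth.L17.BC.Classes.isIso_of_affine θ fun x => ?_
    obtain ⟨V, n, m, hxV, hn, hm, hmn⟩ := h.exists_frames hΔ hI x
    refine ⟨π ⁻¹ᵁ V, hxV, fun W hW _ => ?_⟩
    have he : θ.app W (rs _ hW (pull π h.anti V n)) = rs _ hW m := by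
      have h1 : θ.app (π ⁻¹ᵁ V) (pull π h.anti V n) = m := by
        refine (Groth.L18.IdealModule.exact_sections Δ.ker (π ⁻¹ᵁ V)).1 ?_
        exact (congr($(congrArg (fun φ => Scheme.Modules.Hom.app φ (π ⁻¹ᵁ V)) hθ) (pull π h.anti V n))).trans
          ((hθ₀ V n).trans hmn.symm)
      exact (congr($(θ.mapPresheaf.naturality (homOfLE hW).op) (pull π h.anti V n))).trans (congrArg (rs _ hW) h1)
    have key : ∀ b : Γ(X, W), θ.app W (b • rs _ hW (pull π h.anti V n)) = b • rs _ hW m := fun b => by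
      rw [Scheme.Modules.Hom.app_smul, he]
    refine ⟨fun p q hpq => ?_, fun q => ?_⟩
    · obtain ⟨b, rfl⟩ := (hn.pullback (f := π)).exists_coeff hW p
      obtain ⟨b', rfl⟩ := (hn.pullback (f := π)).exists_coeff hW q
      rw [key, key] at hpq
      rw [hm.inj hW hpq]
    · obtain ⟨b, rfl⟩ := hm.exists_coeff hW q
      exact ⟨_, key b⟩
  exact ⟨asIso θ⟩

end InvQuot

end Groth.L12.SymSq
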