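import Groth.Agent.L12.SymSq.Setup
import Groth.Agent.L22.Big.SurfaceBasic
import Groth.Agent.L08.Cube.Inverse

/-! The Riemann-Roch formula on the symmetric square of a hyperelliptic curve. -/

set_option autoImplicit false
set_option linter.style.haveILetI false
set_option linter.unusedSectionVars false
set_option backward.isDefEq.respectTransparency false
set_option backward.isDefEq.respectTransparency.types false

universe u

open CategoryTheory CategoryTheory.Limits AlgebraicGeometry TopologicalSpace Opposite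

noncomputable section

namespace Groth.L12.SymSq

open Groth.L12.HypSq (Sq graph box tw boxPow pencil)
open Groth.L21.RR (euler_congr deg_congr)
open Groth.L00.Tensor
open Groth.L29.DC.PullTensor (pullTensor)

variable {k : Type u} [Field k] {C : Scheme.{u}} [C.Over (Spec (CommRingCat.of k))]
  [IsProper (C ↘ Spec (CommRingCat.of k))]

section Inverse

variable {σ : C ⟶ C} [IsIso σ] (hσp : σ ≫ (C ↘ Spec (CommRingCat.of k)) = C ↘ Spec (CommRingCat.of k))
  {N : (Sq k C).Modules} (hN : PicF.IsInvertible N)
  (hNinv : ClSub.IsInverseOf N (ClSub.idealMod (graph hσp).ker))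

include hN hNinv in
/-- The ideal of the diagonal is invertible when that of the graph of an automorphism is. -/
theorem exists_diag_inverse : ∃ ND : (Sq k C).Modules, PicF.IsInvertible ND ∧
    ClSub.IsInverseOf ND (ClSub.idealMod (graph (k := k) (f := 𝟙 C) (Category.id_comp _)).ker) := by
  let p := C ↘ Spec (CommRingCat.of k)
  let Φ : Sq k C ⟶ Sq k C := pullback.map p p p p (𝟙 C) σ (𝟙 (Spec (CommRingCat.of k))) (by simp [p]) (by simp [p, hσp])
  haveI : IsIso Φ := by infer_instance
  have e : graph (k := k) (f := 𝟙 C) (Category.id_comp _) ≫ Φ = graph hσp := by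
    apply pullback.hom_ext
    · simp [Φ, p]
    · simp [Φ, p]
      exact Category.id_comp σ
  obtain ⟨i⟩ := hNinv
  have hI : PicF.IsInvertible (ClSub.idealMod (graph hσp).ker) := Groth.L16.NegPow.isInvertible_inverse hN i
  obtain ⟨a⟩ := HypSq.nonempty_kernel_iso_idealMod (graph (k := k) (f := 𝟙 C) (Category.id_comp _))
  obtain ⟨b⟩ := HypSq.nonempty_kernel_iso_idealMod (graph hσp)
  have hker := HypSq.kernelPushIso (graph (k := k) (f := 𝟙 C) (Category.id_comp _)) Φ
  rw [e] at hker
  haveI := Groth.L17.ClosedPush.isIso_counit Φ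
  have hID : PicF.IsInvertible (ClSub.idealMod (graph (k := k) (f := 𝟙 C) (Category.id_comp _)).ker) :=
    Groth.L18.Ample.isInvertible_of_iso
      ((Scheme.Modules.pullback Φ).mapIso (b.symm ≪≫ hker.symm) ≪≫
        asIso ((Scheme.Modules.pullbackPushforwardAdjunction Φ).counit.app _) ≪≫ a)
      (Groth.L18.Ample.isInvertible_pullback Φ hI)
  obtain ⟨ND, hND, ⟨j⟩⟩ := Groth.L08.Cube.exists_inverse hID
  exact ⟨ND, hND, ⟨tensorComm _ _ ≪≫ j⟩⟩

end Inverse

variable {S : Scheme.{u}} {π : Sq k C ⟶ S} [S.Over (Spec (CommRingCat.of k))]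
  {ρ : ULift.{u} (Equiv.Perm (Fin 2)) →* Aut (Sq k C)}
  (hρ : (ρ (ULift.up (Equiv.swap 0 1))).hom = swap (k := k) (C := C)) (hπ : SGA1.IsQuot ρ π)
  (hq : π ≫ (S ↘ Spec (CommRingCat.of k)) = (Sq k C) ↘ Spec (CommRingCat.of k))
  (h2 : (2 : k) ≠ 0) [IsProper (S ↘ Spec (CommRingCat.of k))] [IsIntegral S]
  [Smooth (C ↘ Spec (CommRingCat.of k))] [ConnectedSpace ↥C]
  [IsAlgClosed k] (hdim : topologicalKrullDim ↥C = 1)

/-- The degree on the diagonal of the pullback of a module of the quotient. -/
abbrev ddeg (π : Sq k C ⟶ S) (A : S.Modules) : ℤ :=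
  Curv2.deg k C ((Scheme.Modules.pullback (graph (k := k) (f := 𝟙 C) (Category.id_comp _))).obj
    ((Scheme.Modules.pullback π).obj A)) 1

theorem ddeg_structure : ddeg π (Coh.structureModule S) = 0 := by
  rw [ddeg, deg_congr k ((Scheme.Modules.pullback _).mapIso (Groth.L29.LocFree.pullbackUnitIso π) ≪≫
    Groth.L29.LocFree.pullbackUnitIso _), HypSq.deg_structure']

include hdim in
theorem ddeg_tensor {A B : S.Modules} (hA : PicF.IsInvertible A) (hB : PicF.IsInvertible B) :
    ddeg π (CohB1.tensorMod A B) = ddeg π A + ddeg π B := by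
  haveI := HypSq.isIntegral (k := k) (C := C)
  rw [ddeg, deg_congr k ((Scheme.Modules.pullback _).mapIso (pullTensor π A B).symm ≪≫
    (pullTensor _ _ _).symm), Groth.L21.Duality.deg_tensor hdim
      (Groth.L18.Ample.isInvertible_pullback _ (Groth.L18.Ample.isInvertible_pullback π hA))
      (Groth.L18.Ample.isInvertible_pullback _ (Groth.L18.Ample.isInvertible_pullback π hB))]

include hρ hπ hq h2 hdim in
/-- The Euler characteristic on a surface. -/
theorem euler_quot (M : S.Modules) :
    Curv2.euler k S M = (Groth.L21.RR.h k 0 M : ℤ) - Groth.L21.RR.h k 1 M + Groth.L21.RR.h k 2 M := by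
  haveI := Groth.L21.RR.isNoetherian_of_proper (X := S) k
  rw [Groth.L03.Euler.euler_eq_sum (k := k) (N := 3) fun n hn =>
    Groth.L22.Inter.subsingleton_HH_of_dim (dim_quot hρ hπ hq h2 hdim) M hn]
  simp only [Finset.sum_range_succ, Finset.sum_range_zero, Groth.L21.RR.h]
  ring

variable {ND : (Sq k C).Modules} (hND : PicF.IsInvertible ND)
  (hNDinv : ClSub.IsInverseOf ND (ClSub.idealMod (graph (k := k) (f := 𝟙 C) (Category.id_comp _)).ker))

include hρ hπ hq h2 hdim hND hNDinv in
/-- Cohomology upstairs is that of the two parts. -/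
theorem euler_pullback {M : S.Modules} (hM : PicF.IsInvertible M) :
    Curv2.euler k (Sq k C) ((Scheme.Modules.pullback π).obj M) =
      Curv2.euler k S M + Curv2.euler k S (CohB1.tensorMod M (invQuot hρ hπ hq h2).anti) := by
  rw [HypSq.euler_sq hdim, euler_quot hρ hπ hq h2 hdim, euler_quot hρ hπ hq h2 hdim,
    h_pullback hρ hπ hq h2 hND hNDinv hM 0, h_pullback hρ hπ hq h2 hND hNDinv hM 1,
    h_pullback hρ hπ hq h2 hND hNDinv hM 2]
  push_cast
  ring

include hρ hπ hq h2 hdim hND hNDinv in
/-- Passing to the other part subtracts the contribution of the diagonal. -/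
theorem euler_pullback_anti {M : S.Modules} (hM : PicF.IsInvertible M) :
    Curv2.euler k (Sq k C) ((Scheme.Modules.pullback π).obj (CohB1.tensorMod M (invQuot hρ hπ hq h2).anti)) =
      Curv2.euler k (Sq k C) ((Scheme.Modules.pullback π).obj M) -
        (ddeg π M + (1 - (Curv2.genus k C : ℤ))) := by
  have hA := isInvertible_anti hρ hπ hq h2 hND hNDinv
  obtain ⟨i⟩ := nonempty_pullback_anti hρ hπ hq h2 hND hNDinv
  have hG := Groth.L18.Ample.isInvertible_pullback π hM
  have h := HypSq.euler_step (k := k) (graph (k := k) (f := 𝟙 C) (Category.id_comp _)) hG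
    (HypSq.graph_over _) (Groth.L18.Ample.isInvertible_pullback π (Groth.L18.GenLoc.isInvertible_tensor hM hA))
    (tensorIso (Iso.refl _) i.symm ≪≫ pullTensor π M _)
  rw [HypSq.euler_eq_deg hdim] at h
  rw [ddeg]
  linarith

include hρ hπ hq h2 hdim in
theorem euler_bilinear {A B : S.Modules} (hA : PicF.IsInvertible A) (hB : PicF.IsInvertible B) :
    Curv2.euler k S (Coh.structureModule S) - Curv2.euler k S A - Curv2.euler k S (CohB1.tensorMod B B) +
        Curv2.euler k S (CohB1.tensorMod (CohB1.tensorMod A B) B) =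
      2 * (Curv2.euler k S (Coh.structureModule S) - Curv2.euler k S A - Curv2.euler k S B +
        Curv2.euler k S (CohB1.tensorMod A B)) := by
  have hd := dim_quot hρ hπ hq h2 hdim
  rw [euler_congr k (tensorAssoc A B B), ← HypSq.intNum_two hd, ← HypSq.intNum_two hd]
  have h1 := Groth.L22.Big.intNum_eq_ii k hd A (CohB1.tensorMod B B)
  have h3 := Groth.L22.Big.intNum_eq_ii k hd A B
  rw [Groth.L22.Big.ii_tensor_right k hd hA hB hB, ← h3, ← two_mul] at h1
  exact_mod_cast h1

include hρ hπ hq h2 hdim hND hNDinv in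
theorem euler_quot_formula_aux {A : S.Modules} (hA : PicF.IsInvertible A) :
    4 * Curv2.euler k S A = 2 * Curv2.euler k (Sq k C) ((Scheme.Modules.pullback π).obj A) + ddeg π A +
      2 * (Curv2.euler k S (Coh.structureModule S) - Curv2.euler k S (invQuot hρ hπ hq h2).anti) := by
  set L := (invQuot hρ hπ hq h2).anti with hLdef
  have hL : PicF.IsInvertible L := isInvertible_anti hρ hπ hq h2 hND hNDinv
  have hO := Groth.L18.Ample.isInvertible_structureModule S
  have hAL := Groth.L18.GenLoc.isInvertible_tensor hA hL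
  have e1 := euler_pullback hρ hπ hq h2 hdim hND hNDinv hA
  have e2 := euler_pullback_anti hρ hπ hq h2 hdim hND hNDinv hA
  have e3 := euler_pullback hρ hπ hq h2 hdim hND hNDinv hAL
  have o1 := euler_pullback hρ hπ hq h2 hdim hND hNDinv hO
  have o2 := euler_pullback_anti hρ hπ hq h2 hdim hND hNDinv hO
  have o3 := euler_pullback hρ hπ hq h2 hdim hND hNDinv hL
  have d0 := ddeg_structure (k := k) (C := C) (π := π)
  have bil := euler_bilinear hρ hπ hq h2 hdim hA hL
  simp only [← hLdef] at e1 e2 e3 o1 o2 o3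
  rw [euler_congr k (tensorUnitLeft L)] at o1
  rw [euler_congr k ((Scheme.Modules.pullback π).mapIso (tensorUnitLeft L)), d0] at o2
  linarith

include hρ hπ hq h2 hdim hND hNDinv in
/-- The Riemann-Roch formula on the symmetric square. -/
theorem euler_quot_formula {A : S.Modules} (hA : PicF.IsInvertible A) :
    4 * Curv2.euler k S A = 2 * Curv2.euler k (Sq k C) ((Scheme.Modules.pullback π).obj A) + ddeg π A -
      2 * ((Curv2.genus k C : ℤ) - 1) := by
  have hO := Groth.L18.Ample.isInvertible_structureModule S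
  have hL := isInvertible_anti hρ hπ hq h2 hND hNDinv
  haveI := HypSq.isIntegral (k := k) (C := C)
  have aL := euler_quot_formula_aux hρ hπ hq h2 hdim hND hNDinv hL
  have aA := euler_quot_formula_aux hρ hπ hq h2 hdim hND hNDinv hA
  have o1 := euler_pullback hρ hπ hq h2 hdim hND hNDinv hO
  have o2 := euler_pullback_anti hρ hπ hq h2 hdim hND hNDinv hO
  have d0 := ddeg_structure (k := k) (C := C) (π := π)
  rw [euler_congr k (tensorUnitLeft (invQuot hρ hπ hq h2).anti),
    euler_congr k (Groth.L29.LocFree.pullbackUnitIso π), HypSq.euler_sq_structure hdim] at o1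
  rw [euler_congr k ((Scheme.Modules.pullback π).mapIso (tensorUnitLeft (invQuot hρ hπ hq h2).anti)), d0,
    euler_congr k (Groth.L29.LocFree.pullbackUnitIso π), HypSq.euler_sq_structure hdim] at o2
  have dL : ddeg π (invQuot hρ hπ hq h2).anti = 2 * ((Curv2.genus k C : ℤ) - 1) := by
    obtain ⟨i⟩ := nonempty_pullback_anti hρ hπ hq h2 hND hNDinv
    obtain ⟨j⟩ := hNDinv
    have h := Groth.L21.Duality.deg_tensor (k := k) hdim
      (Groth.L18.Ample.isInvertible_pullback (graph (k := k) (f := 𝟙 C) (Category.id_comp _)) hND)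
      (Groth.L18.Ample.isInvertible_pullback (graph (k := k) (f := 𝟙 C) (Category.id_comp _))
        (isInvertible_diag_ideal hND ⟨j⟩))
    rw [deg_congr k (pullTensor _ _ _ ≪≫ (Scheme.Modules.pullback _).mapIso j ≪≫
        Groth.L29.LocFree.pullbackUnitIso _), HypSq.deg_structure',
      HypSq.deg_normal (Category.id_comp _) hND ⟨j⟩ hdim] at h
    rw [ddeg, deg_congr k ((Scheme.Modules.pullback _).mapIso i)]
    linarith
  rw [dL, o2] at aL
  linarith

include hρ hπ hq h2 hdim hND hNDinv in
/-- Intersection numbers upstairs are twice those downstairs. -/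
theorem two_mul_intNum {A B : S.Modules} (hA : PicF.IsInvertible A) (hB : PicF.IsInvertible B)
    {A' B' : (Sq k C).Modules} (a : (Scheme.Modules.pullback π).obj A ≅ A')
    (b : (Scheme.Modules.pullback π).obj B ≅ B') :
    2 * FGA.intNum k S 2 ![A, B] (Coh.structureModule S) =
      FGA.intNum k (Sq k C) 2 ![A', B'] (Coh.structureModule (Sq k C)) := by
  have hO := Groth.L18.Ample.isInvertible_structureModule S
  have f0 := euler_quot_formula hρ hπ hq h2 hdim hND hNDinv hO
  have fA := euler_quot_formula hρ hπ hq h2 hdim hND hNDinv hA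
  have fB := euler_quot_formula hρ hπ hq h2 hdim hND hNDinv hB
  have fAB := euler_quot_formula hρ hπ hq h2 hdim hND hNDinv (Groth.L18.GenLoc.isInvertible_tensor hA hB)
  have d0 := ddeg_structure (k := k) (C := C) (π := π)
  rw [d0, euler_congr k (Groth.L29.LocFree.pullbackUnitIso π)] at f0
  rw [euler_congr k a] at fA
  rw [euler_congr k b] at fB
  rw [ddeg_tensor hdim hA hB, euler_congr k ((pullTensor π A B).symm ≪≫ tensorIso a b)] at fAB
  rw [HypSq.intNum_two (dim_quot hρ hπ hq h2 hdim), HypSq.intNum_two (HypSq.dim_sq hdim)]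
  linarith

end Groth.L12.SymSq
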