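import Groth.Agent.L18.Frame
import Groth.Agent.L18.IdealModule
import Groth.Agent.L21.RR.PointPow
import Groth.Agent.L17.BC.Sheaf
import Groth.Agent.L27.Quot.Basic
import Groth.Prelude.Def_ClSub2
import Groth.Prelude.Def_SGA1

/-! Quotients by an involution when two is invertible: the averaging retraction and the anti-invariant part. -/

set_option autoImplicit false
set_option linter.style.haveILetI false
set_option linter.unusedSectionVars false
set_option backward.isDefEq.respectTransparency false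
set_option backward.isDefEq.respectTransparency.types false

universe u

open CategoryTheory CategoryTheory.Limits AlgebraicGeometry TopologicalSpace Opposite

noncomputable section

namespace Groth.L12.SymSq

open Groth.L18.Frame (rs ro IsFrame pull)

variable {X S : Scheme.{u}}

/-- The data of a quotient by an involution with two invertible on the quotient. -/
structure InvQuot (π : X ⟶ S) (τ : X ⟶ X) : Prop where
  affine : IsAffineHom π
  comp : τ ≫ π = π
  invol : τ ≫ τ = 𝟙 X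
  injective : ∀ U : S.Opens, Function.Injective (π.app U).hom
  range : ∀ (U : S.Opens) (s : Γ(X, π ⁻¹ᵁ U)),
    (τ.appLE (π ⁻¹ᵁ U) (π ⁻¹ᵁ U) (by rw [← Scheme.Hom.comp_preimage, comp])).hom s = s → s ∈ Set.range (π.app U).hom
  two : IsUnit (2 : Γ(S, ⊤))

variable {π : X ⟶ S} {τ : X ⟶ X}

namespace InvQuot

variable (h : InvQuot π τ)

include h in
theorem le_preimage (U : S.Opens) : π ⁻¹ᵁ U ≤ τ ⁻¹ᵁ (π ⁻¹ᵁ U) := by
  rw [← Scheme.Hom.comp_preimage, h.comp]

/-- The involution on sections over preimages. -/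
def act (U : S.Opens) : Γ(X, π ⁻¹ᵁ U) →+* Γ(X, π ⁻¹ᵁ U) :=
  (τ.appLE (π ⁻¹ᵁ U) (π ⁻¹ᵁ U) (h.le_preimage U)).hom

theorem act_app (U : S.Opens) (a : Γ(S, U)) : h.act U (π.app U a) = π.app U a := by
  show (π.app U ≫ τ.appLE (π ⁻¹ᵁ U) (π ⁻¹ᵁ U) (h.le_preimage U)) a = _
  rw [Scheme.Hom.app_eq_appLE, Scheme.Hom.appLE_comp_appLE, Groth.L27.Quot.appLE_eq_of_eq h.comp]

theorem act_act (U : S.Opens) (s : Γ(X, π ⁻¹ᵁ U)) : h.act U (h.act U s) = s := by
  show (τ.appLE (π ⁻¹ᵁ U) (π ⁻¹ᵁ U) (h.le_preimage U) ≫ τ.appLE (π ⁻¹ᵁ U) (π ⁻¹ᵁ U) (h.le_preimage U)) s = s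
  rw [Scheme.Hom.appLE_comp_appLE, Groth.L27.Quot.appLE_eq_of_eq h.invol]
  simp [Scheme.Hom.appLE]
  exact congr($(X.presheaf.map_id (op (π ⁻¹ᵁ U))) s)

theorem act_map {U V : S.Opens} (i : V ≤ U) (s : Γ(X, π ⁻¹ᵁ U)) :
    h.act V (ro (show π ⁻¹ᵁ V ≤ π ⁻¹ᵁ U from fun _ hx => i hx) s) =
      ro (show π ⁻¹ᵁ V ≤ π ⁻¹ᵁ U from fun _ hx => i hx) (h.act U s) := by
  show (X.presheaf.map _ ≫ τ.appLE _ _ _) s = (τ.appLE _ _ _ ≫ X.presheaf.map _) s
  rw [Scheme.Hom.map_appLE, Scheme.Hom.appLE_map]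

theorem app_map {U V : S.Opens} (i : V ≤ U) (a : Γ(S, U)) :
    π.app V (ro i a) = ro (show π ⁻¹ᵁ V ≤ π ⁻¹ᵁ U from fun _ hx => i hx) (π.app U a) :=
  congr($(π.naturality (homOfLE i).op) a)

include h in
theorem two_isUnit (U : S.Opens) : IsUnit (2 : Γ(S, U)) := by
  have := h.two.map (S.presheaf.map (homOfLE (le_top : U ≤ ⊤)).op).hom
  rwa [map_ofNat] at this

theorem exists_avg (U : S.Opens) (s : Γ(X, π ⁻¹ᵁ U)) : ∃ a, π.app U a = s + h.act U s :=
  h.range U _ (by
    show h.act U (s + h.act U s) = s + h.act U s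
    rw [map_add, h.act_act, add_comm])

/-- The average of a section and its image, as a section of the quotient. -/
def avg (U : S.Opens) (s : Γ(X, π ⁻¹ᵁ U)) : Γ(S, U) :=
  (↑(h.two_isUnit U).unit⁻¹ : Γ(S, U)) * (h.exists_avg U s).choose

theorem two_mul_app_avg (U : S.Opens) (s : Γ(X, π ⁻¹ᵁ U)) : 2 * π.app U (h.avg U s) = s + h.act U s := by
  rw [← map_ofNat (π.app U).hom 2, ← map_mul, avg, ← mul_assoc, (h.two_isUnit U).mul_val_inv, one_mul]
  exact (h.exists_avg U s).choose_spec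

theorem avg_eq {U : S.Opens} {s : Γ(X, π ⁻¹ᵁ U)} {a : Γ(S, U)} (e : 2 * π.app U a = s + h.act U s) :
    h.avg U s = a := by
  refine (h.two_isUnit U).mul_left_cancel (h.injective U ?_)
  rw [map_mul, map_mul, map_ofNat, h.two_mul_app_avg U s, e]

theorem avg_app (U : S.Opens) (a : Γ(S, U)) : h.avg U (π.app U a) = a :=
  h.avg_eq (by rw [h.act_app, two_mul])

/-- The averaging retraction of the unit. -/
def retr : (Scheme.Modules.pushforward π).obj (Coh.structureModule X) ⟶ Coh.structureModule S :=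
  ⟨PresheafOfModules.homMk
    { app := fun U => AddCommGrpCat.ofHom
        (AddMonoidHom.mk' (fun s : Γ(X, π ⁻¹ᵁ U.unop) => h.avg U.unop s) fun s t => h.avg_eq (by
          rw [map_add, mul_add, h.two_mul_app_avg, h.two_mul_app_avg, map_add]
          ring))
      naturality := fun U V i => by
        ext s
        exact h.avg_eq (show 2 * π.app V.unop (ro (leOfHom i.unop) (h.avg U.unop s)) =
            ro (show π ⁻¹ᵁ V.unop ≤ π ⁻¹ᵁ U.unop from fun _ hx => leOfHom i.unop hx) s +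
              h.act V.unop (ro (show π ⁻¹ᵁ V.unop ≤ π ⁻¹ᵁ U.unop from fun _ hx => leOfHom i.unop hx) s) by
          rw [h.act_map (leOfHom i.unop), app_map (leOfHom i.unop), ← map_add, ← h.two_mul_app_avg, map_mul, map_ofNat]) }
    (fun U r s => h.avg_eq (show 2 * π.app U.unop ((show Γ(S, U.unop) from r) * h.avg U.unop s) =
        π.app U.unop (show Γ(S, U.unop) from r) * (show Γ(X, π ⁻¹ᵁ U.unop) from s) +
          h.act U.unop (π.app U.unop (show Γ(S, U.unop) from r) * (show Γ(X, π ⁻¹ᵁ U.unop) from s)) by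
      rw [map_mul, map_mul, h.act_app, mul_left_comm, h.two_mul_app_avg, mul_add]))⟩

theorem retr_app (U : S.Opens) (s : Γ(X, π ⁻¹ᵁ U)) : h.retr.app U s = h.avg U s := rfl

theorem unit_retr : ClSub.unitToPush π ≫ h.retr = 𝟙 _ := by
  refine Scheme.Modules.hom_ext _ _ fun U => ?_
  ext a
  exact h.avg_app U a

/-- The anti-invariant part. -/
def anti : S.Modules := kernel h.retr

/-- Anti-invariant sections as sections upstairs. -/
def antiι : h.anti ⟶ (Scheme.Modules.pushforward π).obj (Coh.structureModule X) := kernel.ι h.retr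

theorem sections_anti (U : S.Opens) :
    Function.Injective (h.antiι.app U) ∧
      ∀ t : Γ(X, π ⁻¹ᵁ U), h.avg U t = 0 → ∃ m : Γ(h.anti, U), (show Γ(X, π ⁻¹ᵁ U) from h.antiι.app U m) = t := by
  let E := SheafOfModules.evaluation.{u} S.ringCatSheaf (op U)
  haveI : E.Additive := Functor.additive_of_preserves_binary_products E
  let T := (ShortComplex.mk (kernel.ι h.retr) h.retr (kernel.condition h.retr)).map E
  have hk : IsLimit (KernelFork.ofι T.f T.zero) :=
    isLimitForkMapOfIsLimit' E (kernel.condition h.retr) (kernelIsKernel h.retr)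
  haveI : Mono T.f := mono_of_isLimit_fork hk
  exact ⟨(ModuleCat.mono_iff_injective T.f).1 inferInstance,
    fun t ht => (ShortComplex.moduleCat_exact_iff T).1 (ShortComplex.exact_of_f_is_kernel T hk) t ht⟩

theorem antiι_injective (U : S.Opens) : Function.Injective (h.antiι.app U) := (h.sections_anti U).1

theorem act_antiι (U : S.Opens) (m : Γ(h.anti, U)) :
    h.act U (show Γ(X, π ⁻¹ᵁ U) from h.antiι.app U m) = -(show Γ(X, π ⁻¹ᵁ U) from h.antiι.app U m) := by
  have h0 : h.avg U (show Γ(X, π ⁻¹ᵁ U) from h.antiι.app U m) = 0 :=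
    congr($(congrArg (fun φ => Scheme.Modules.Hom.app φ U) (kernel.condition h.retr)) m)
  have h1 := h.two_mul_app_avg U (show Γ(X, π ⁻¹ᵁ U) from h.antiι.app U m)
  rw [h0, map_zero, mul_zero] at h1
  exact eq_neg_of_add_eq_zero_right h1.symm

theorem exists_of_act_eq_neg (U : S.Opens) (s : Γ(X, π ⁻¹ᵁ U)) (hs : h.act U s = -s) :
    ∃ m : Γ(h.anti, U), (show Γ(X, π ⁻¹ᵁ U) from h.antiι.app U m) = s := by
  have h0 : h.avg U s = 0 := h.avg_eq (by rw [map_zero, mul_zero, hs, add_neg_cancel])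
  exact (h.sections_anti U).2 s h0

end InvQuot

end Groth.L12.SymSq
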