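import Groth.Agent.L12.SymSq.Formula

/-! Classes on the symmetric square of a hyperelliptic curve: Euler characteristics and vanishing. -/

set_option autoImplicit false
set_option linter.style.haveILetI false
set_option linter.unusedSectionVars false
set_option backward.isDefEq.respectTransparency false
set_option backward.isDefEq.respectTransparency.types false

universe u

open CategoryTheory CategoryTheory.Limits AlgebraicGeometry TopologicalSpace Opposite

noncomputable section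

namespace Groth.L12.SymSq

open Groth.L12.HypSq (Sq graph box tw boxPow pencil)
open Groth.L21.RR (euler_congr deg_congr)
open Groth.L00.Tensor
open Groth.L29.DC.PullTensor (pullTensor)

variable {k : Type u} [Field k] {C : Scheme.{u}} [C.Over (Spec (CommRingCat.of k))]
  [IsProper (C ↘ Spec (CommRingCat.of k))] [Smooth (C ↘ Spec (CommRingCat.of k))] [ConnectedSpace ↥C]
  [IsAlgClosed k] (hdim : topologicalKrullDim ↥C = 1)
  {κ : C ⟶ CohB1.ProjSpace 1 k} [IsFinite κ] [Flat κ]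
  (hκ : κ ≫ CohB1.ProjSpace.toSpec 1 k = (C ↘ Spec (CommRingCat.of k)))
  (hκ2 : ∀ y : ↥(CohB1.ProjSpace 1 k), κ.finrank y = 2)
  {σ : C ⟶ C} (hσ : σ ≫ κ = κ) (hσ1 : σ ≠ 𝟙 C)
  (hσp : σ ≫ (C ↘ Spec (CommRingCat.of k)) = C ↘ Spec (CommRingCat.of k))
  {N ND : (Sq k C).Modules} (hN : PicF.IsInvertible N)
  (hNinv : ClSub.IsInverseOf N (ClSub.idealMod (graph hσp).ker))
  (hND : PicF.IsInvertible ND)
  (hNDinv : ClSub.IsInverseOf ND (ClSub.idealMod (graph (k := k) (f := 𝟙 C) (Category.id_comp _)).ker))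

include hdim hκ hκ2 hσ hσ1 hσp hN hNinv hND hNDinv in
/-- The graph of the involution restricted to the diagonal. -/
theorem deg_diag_graph :
    Curv2.deg k C ((Scheme.Modules.pullback (graph (k := k) (f := 𝟙 C) (Category.id_comp _))).obj N) 1 =
      2 * (Curv2.genus k C : ℤ) + 2 := by
  haveI := HypSq.isIntegral (k := k) (C := C)
  obtain ⟨t⟩ := HypSq.nonempty_diag_add_graph hdim hκ hκ2 hσ hσ1 hσp hN hNinv hND hNDinv
  have hL := HypSq.isInvertible_pencil κ
  have h := Groth.L21.Duality.deg_tensor (k := k) hdim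
    (Groth.L18.Ample.isInvertible_pullback (graph (k := k) (f := 𝟙 C) (Category.id_comp _)) hND)
    (Groth.L18.Ample.isInvertible_pullback (graph (k := k) (f := 𝟙 C) (Category.id_comp _)) hN)
  obtain ⟨e⟩ := HypSq.nonempty_pullback_box (k := k) (f := 𝟙 C) (Category.id_comp _) (pencil κ) (pencil κ)
  rw [deg_congr k (pullTensor _ _ _ ≪≫ (Scheme.Modules.pullback _).mapIso t ≪≫ e ≪≫
    tensorIso (Iso.refl _) ((Scheme.Modules.pullbackId C).app _)),
    HypSq.deg_normal (Category.id_comp _) hND hNDinv hdim] at h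
  simp only [Functor.id_obj] at h
  rw [Groth.L21.Duality.deg_tensor (k := k) hdim hL hL, HypSq.deg_pencil hdim hκ hκ2] at h
  linarith

variable {S : Scheme.{u}} {π : Sq k C ⟶ S} [S.Over (Spec (CommRingCat.of k))]
  {ρ : ULift.{u} (Equiv.Perm (Fin 2)) →* Aut (Sq k C)}
  (hρ : (ρ (ULift.up (Equiv.swap 0 1))).hom = swap (k := k) (C := C)) (hπ : SGA1.IsQuot ρ π)
  (hq : π ≫ (S ↘ Spec (CommRingCat.of k)) = (Sq k C) ↘ Spec (CommRingCat.of k))
  (h2 : (2 : k) ≠ 0) [IsProper (S ↘ Spec (CommRingCat.of k))] [IsIntegral S]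

include hdim hκ hκ2 hσ hσ1 hσp hN hNinv hND hNDinv hρ hπ hq h2 in
/-- The Euler characteristic of a class on the symmetric square. -/
theorem euler_class {M : S.Modules} (hM : PicF.IsInvertible M) {A B : C.Modules} (hA : PicF.IsInvertible A)
    (hB : PicF.IsInvertible B) {r : ℕ} (e : (Scheme.Modules.pullback π).obj M ≅ tw (box (k := k) A B) N r) :
    4 * Curv2.euler k S M =
      2 * ((Curv2.deg k C A 1 + (1 - (Curv2.genus k C : ℤ))) * (Curv2.deg k C B 1 + (1 - (Curv2.genus k C : ℤ))) +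
          r * (Curv2.deg k C A 1 + Curv2.deg k C B 1) - ((Curv2.genus k C : ℤ) - 1) * r * (r + 2)) +
        (Curv2.deg k C A 1 + Curv2.deg k C B 1 + r * (2 * (Curv2.genus k C : ℤ) + 2)) -
        2 * ((Curv2.genus k C : ℤ) - 1) := by
  haveI := HypSq.isIntegral (k := k) (C := C)
  haveI := HypSq.isIso_of_comp_eq hdim hκ hκ2 hσ hσp
  obtain ⟨e'⟩ := HypSq.nonempty_pullback_tw (k := k) (f := 𝟙 C) (Category.id_comp _) (box (k := k) A B) N r
  obtain ⟨e''⟩ := HypSq.nonempty_pullback_box (k := k) (f := 𝟙 C) (Category.id_comp _) A B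
  have hd : ddeg π M = Curv2.deg k C A 1 + Curv2.deg k C B 1 + r * (2 * (Curv2.genus k C : ℤ) + 2) := by
    rw [ddeg, deg_congr k ((Scheme.Modules.pullback _).mapIso e ≪≫ e' ≪≫
      tensorIso (e'' ≪≫ tensorIso (Iso.refl _) ((Scheme.Modules.pullbackId C).app B)) (Iso.refl _))]
    simp only [Functor.id_obj]
    rw [Groth.L21.Duality.deg_tensor hdim (Groth.L18.GenLoc.isInvertible_tensor hA hB)
        (Groth.L18.Ample.isInvertible_tensorPow (Groth.L18.Ample.isInvertible_pullback _ hN) r),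
      Groth.L21.Duality.deg_tensor hdim hA hB,
      Groth.L21.Duality.deg_tensorPow hdim (Groth.L18.Ample.isInvertible_pullback _ hN),
      deg_diag_graph hdim hκ hκ2 hσ hσ1 hσp hN hNinv hND hNDinv]
  rw [euler_quot_formula hρ hπ hq h2 hdim hND hNDinv hM, hd, euler_congr k e,
    HypSq.euler_tw hσp hN hNinv hdim hA hB, HypSq.deg_pullback_eq hdim hκ hκ2 hσ hσp hB,
    HypSq.euler_eq_deg hdim A, HypSq.euler_eq_deg hdim B]

include hdim hκ hκ2 hσ hσ1 hσp hN hNinv hND hNDinv hρ hπ hq h2 in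
theorem euler_boxPow_class {M : S.Modules} (hM : PicF.IsInvertible M) {m r : ℕ}
    (e : (Scheme.Modules.pullback π).obj M ≅ tw (boxPow κ m) N r) :
    2 * Curv2.euler k S M =
      (2 * (m : ℤ) - ((Curv2.genus k C : ℤ) - 1) + 1) * (2 * (m : ℤ) - ((Curv2.genus k C : ℤ) - 1)) +
        2 * (r : ℤ) * (2 * m + 1) - ((Curv2.genus k C : ℤ) - 1) * r * (r + 1) := by
  have hL := HypSq.isInvertible_pencilPow κ m
  have h := euler_class hdim hκ hκ2 hσ hσ1 hσp hN hNinv hND hNDinv hρ hπ hq h2 hM hL hL e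
  rw [HypSq.deg_pencilPow hdim hκ hκ2] at h
  nlinarith [h]

include hdim hκ hκ2 hσ hσp hN hNinv hND hNDinv hρ hπ hq h2 in
theorem subsingleton_h2_class {M : S.Modules} (hM : PicF.IsInvertible M) {m r : ℕ}
    (hm : Curv2.genus k C ≤ m) (e : (Scheme.Modules.pullback π).obj M ≅ tw (boxPow κ m) N r) :
    Subsingleton (Coh.HH S M 2) := by
  haveI := Groth.L21.RR.isNoetherian_of_proper (X := S) k
  haveI := Groth.L21.RR.finite_HH' k (Groth.L16.ProperFinite.isCoh_of_isInvertible hM) 2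
  have h := h_pullback hρ hπ hq h2 hND hNDinv hM 2
  rw [Groth.L21.RR.h_congr k e 2, Groth.L21.RR.h_eq_zero_of_subsingleton k
    (HypSq.subsingleton_h2 hdim hκ hκ2 hσ hσp hN hNinv hm r)] at h
  exact Module.finrank_zero_iff.1 (show Groth.L21.RR.h k 2 M = 0 by omega)

include hdim hκ hκ2 hσ hσ1 hσp hN hNinv hND hNDinv hρ hπ hq h2 in
/-- Vanishing of first cohomology on the symmetric square. -/
theorem subsingleton_h1_class {g : ℕ} (hg : 1 ≤ g) (hgen : Curv2.genus k C = g) {M : S.Modules}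
    (hM : PicF.IsInvertible M) {m : ℕ} (hm : g ≤ m) :
    ∀ {r : ℕ}, ((g : ℤ) - 1) * r < 2 * m →
      ((Scheme.Modules.pullback π).obj M ≅ tw (boxPow κ m) N r) → Subsingleton (Coh.HH S M 1) := by
  haveI := Groth.L21.RR.isNoetherian_of_proper (X := S) k
  haveI := Groth.L21.RR.finite_HH' k (Groth.L16.ProperFinite.isCoh_of_isInvertible hM) 1
  rintro (- | r) hr e
  · have h := h_pullback hρ hπ hq h2 hND hNDinv hM 1
    rw [Groth.L21.RR.h_congr k e 1, Groth.L21.RR.h_eq_zero_of_subsingleton k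
      (HypSq.subsingleton_h1 hdim hκ hκ2 hσ hσp hN hNinv hg hgen hm 0 (by push_cast; omega))] at h
    exact Module.finrank_zero_iff.1 (show Groth.L21.RR.h k 1 M = 0 by omega)
  · set L := (invQuot hρ hπ hq h2).anti
    have hL : PicF.IsInvertible L := isInvertible_anti hρ hπ hq h2 hND hNDinv
    obtain ⟨i⟩ := nonempty_pullback_anti hρ hπ hq h2 hND hNDinv
    obtain ⟨L₁, hL₁, ⟨j⟩⟩ := Groth.L08.Cube.exists_inverse hL
    obtain ⟨d⟩ := id hNDinv
    obtain ⟨t⟩ := HypSq.nonempty_diag_add_graph hdim hκ hκ2 hσ hσ1 hσp hN hNinv hND hNDinv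
    let eL : (Scheme.Modules.pullback π).obj L₁ ≅ ND :=
      (tensorUnitLeft _).symm ≪≫ tensorIso d.symm (Iso.refl _) ≪≫ tensorAssoc _ _ _ ≪≫
        tensorIso (Iso.refl ND) (tensorIso i.symm (Iso.refl _) ≪≫ pullTensor π L L₁ ≪≫
          (Scheme.Modules.pullback π).mapIso j ≪≫ Groth.L29.LocFree.pullbackUnitIso π) ≪≫ tensorUnitRight ND
    let e' : (Scheme.Modules.pullback π).obj (CohB1.tensorMod M L₁) ≅ tw (boxPow κ (m + 1)) N r :=
      (pullTensor π M L₁).symm ≪≫ tensorIso e eL ≪≫ tensorAssoc _ _ _ ≪≫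
        tensorIso (Iso.refl _) (tensorAssoc _ _ _ ≪≫
          tensorIso (Iso.refl _) (tensorComm _ _ ≪≫ t) ≪≫ tensorComm _ _) ≪≫
        (tensorAssoc _ _ _).symm ≪≫ tensorIso (HypSq.boxMulIso _ _ _ _) (Iso.refl _)
    have h := h_pullback hρ hπ hq h2 hND hNDinv (Groth.L18.GenLoc.isInvertible_tensor hM hL₁) 1
    rw [Groth.L21.RR.h_congr k e' 1,
      Groth.L21.RR.h_eq_zero_of_subsingleton k (HypSq.subsingleton_h1 hdim hκ hκ2 hσ hσp hN hNinv hg hgen
        (m := m + 1) (by omega) r (by push_cast at hr ⊢; linarith)),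
      Groth.L21.RR.h_congr k (tensorAssoc M L₁ L ≪≫ tensorIso (Iso.refl M) (tensorComm _ _ ≪≫ j) ≪≫
        tensorUnitRight M) 1] at h
    exact Module.finrank_zero_iff.1 (show Groth.L21.RR.h k 1 M = 0 by omega)

include hdim hκ hκ2 hσ hσ1 hσp hN hNinv hND hNDinv hρ hπ hq h2 in
theorem h0_class {g : ℕ} (hg : 1 ≤ g) (hgen : Curv2.genus k C = g) {M : S.Modules}
    (hM : PicF.IsInvertible M) {m r : ℕ} (hm : g ≤ m) (hr : ((g : ℤ) - 1) * r < 2 * m)
    (e : (Scheme.Modules.pullback π).obj M ≅ tw (boxPow κ m) N r) :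
    2 * (Groth.L21.RR.h k 0 M : ℤ) = (2 * (m : ℤ) - ((g : ℤ) - 1) + 1) * (2 * (m : ℤ) - ((g : ℤ) - 1)) +
      2 * (r : ℤ) * (2 * m + 1) - ((g : ℤ) - 1) * r * (r + 1) := by
  have h := euler_boxPow_class hdim hκ hκ2 hσ hσ1 hσp hN hNinv hND hNDinv hρ hπ hq h2 hM e
  rw [euler_quot hρ hπ hq h2 hdim, hgen,
    Groth.L21.RR.h_eq_zero_of_subsingleton k
      (subsingleton_h1_class hdim hκ hκ2 hσ hσ1 hσp hN hNinv hND hNDinv hρ hπ hq h2 hg hgen hM hm hr e),
    Groth.L21.RR.h_eq_zero_of_subsingleton k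
      (subsingleton_h2_class hdim hκ hκ2 hσ hσp hN hNinv hND hNDinv hρ hπ hq h2 hM (hgen.trans_le hm) e)] at h
  simpa using h

end Groth.L12.SymSq
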