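import Groth.Agent.L12.SymSq.Inter

/-! A fixed point of the involution gives half of the pencil. -/

set_option autoImplicit false
set_option linter.style.haveILetI false
set_option linter.unusedSectionVars false
set_option backward.isDefEq.respectTransparency false
set_option backward.isDefEq.respectTransparency.types false

universe u

open CategoryTheory CategoryTheory.Limits AlgebraicGeometry TopologicalSpace Opposite

noncomputable section

namespace Groth.L12.SymSq

open Groth.L12.HypSq (Sq graph box tw boxPow pencil sliceFst)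
open Groth.L21.RR (euler_congr deg_congr)
open Groth.L00.Tensor
open Groth.L29.DC.PullTensor (pullTensor)

variable {k : Type u} [Field k] {C : Scheme.{u}} [C.Over (Spec (CommRingCat.of k))]
  [IsProper (C ↘ Spec (CommRingCat.of k))] [Smooth (C ↘ Spec (CommRingCat.of k))] [ConnectedSpace ↥C]
  [IsAlgClosed k] (hdim : topologicalKrullDim ↥C = 1)
  (x : Spec (CommRingCat.of k) ⟶ C) (hx : x ≫ (C ↘ Spec (CommRingCat.of k)) = 𝟙 (Spec (CommRingCat.of k)))
  {A : C.Modules} (hA : PicF.IsInvertible A) (hAinv : ClSub.IsInverseOf A (ClSub.idealMod x.ker))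

include hdim hx hA hAinv in
/-- A graph through a point of the diagonal meets the slice through it in that point. -/
theorem nonempty_slice_graph {f : C ⟶ C} [IsIso f]
    (hf : f ≫ (C ↘ Spec (CommRingCat.of k)) = C ↘ Spec (CommRingCat.of k)) (hfx : x ≫ f = x)
    {N : (Sq k C).Modules} (hN : PicF.IsInvertible N)
    (hNinv : ClSub.IsInverseOf N (ClSub.idealMod (graph hf).ker)) :
    Nonempty ((Scheme.Modules.pullback (sliceFst x hx)).obj N ≅ A) := by
  haveI := HypSq.isIntegral (k := k) (C := C)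
  haveI := HypSq.isClosedImmersion_point x hx
  haveI := Groth.L21.RR.isNoetherian_of_proper (X := C) k
  set i := sliceFst x hx with hi
  obtain ⟨d⟩ := id hNinv
  set I := ClSub.idealMod (graph hf).ker with hIdef
  have hI : PicF.IsInvertible I := Groth.L16.NegPow.isInvertible_inverse hN d
  have hO := Groth.L18.Ample.isInvertible_structureModule (Sq k C)
  obtain ⟨a, w, hSa⟩ := HypSq.exists_seq (graph hf) hO (tensorUnitLeft I)
  obtain ⟨c, hc⟩ : ∃ c : C, i c ∉ Set.range (graph hf) := by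
    by_contra hall
    push Not at hall
    haveI : Subsingleton ↥C := by
      refine ⟨fun c c' => ?_⟩
      suffices h : ∀ c : C, c = x (IsLocalRing.closedPoint k) from (h c).trans (h c').symm
      intro c
      obtain ⟨y, hy⟩ := hall c
      have h1 := congrArg (pullback.fst (C ↘ Spec (CommRingCat.of k)) (C ↘ Spec (CommRingCat.of k))) hy
      have h2 := congrArg (pullback.snd (C ↘ Spec (CommRingCat.of k)) (C ↘ Spec (CommRingCat.of k))) hy
      rw [← Scheme.Hom.comp_apply, ← Scheme.Hom.comp_apply, pullback.lift_fst, hi, pullback.lift_fst,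
        Scheme.Hom.comp_apply] at h1
      rw [← Scheme.Hom.comp_apply, ← Scheme.Hom.comp_apply, pullback.lift_snd, hi, pullback.lift_snd] at h2
      have h3 : (C ↘ Spec (CommRingCat.of k)) c = IsLocalRing.closedPoint k :=
        @Subsingleton.elim _ (inferInstanceAs (Subsingleton (PrimeSpectrum k))) _ _
      rw [h3] at h1
      change y = _ at h1
      change f y = c at h2
      rw [← h2, h1, ← Scheme.Hom.comp_apply, hfx]
    have hsub : Subsingleton (TopologicalSpace.IrreducibleCloseds ↥C) :=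
      ⟨fun p q => TopologicalSpace.IrreducibleCloseds.ext (by
        rw [Subsingleton.eq_univ_of_nonempty p.isIrreducible.nonempty,
          Subsingleton.eq_univ_of_nonempty q.isIrreducible.nonempty])⟩
    have h0 : topologicalKrullDim ↥C ≤ 0 := Order.krullDim_nonpos_of_subsingleton
    rw [hdim] at h0
    exact absurd h0 (by decide)
  let u := Groth.L29.LocFree.pullbackUnitIso i
  let φ : (Scheme.Modules.pullback i).obj I ⟶ Coh.structureModule C := (Scheme.Modules.pullback i).map a ≫ u.hom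
  have hφ : φ ≠ 0 := fun h => HypSq.pullback_map_ne_zero (graph hf) hO a w hSa
    (Scheme.Hom.isClosedEmbedding (graph hf)).isClosed_range i c hc
    ((cancel_mono u.hom).1 (h.trans zero_comp.symm))
  have hxφ : (Scheme.Modules.pullback x).map φ = 0 := by
    haveI := Groth.L19.LimMod.additive_pullback x
    have hc : x ≫ i = x ≫ graph hf := by
      apply pullback.hom_ext
      · simp only [Category.assoc, hi, pullback.lift_fst]
        rw [← Category.assoc, hx, Category.id_comp, Category.comp_id]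
      · simp only [Category.assoc, hi, pullback.lift_snd]
        rw [Category.comp_id, hfx]
    have h1 := HypSq.pullback_map_comp_eq_zero x _ a (HypSq.pullback_map_eq_zero_of_comp_eta (graph hf) a w)
    rw [← hc] at h1
    rw [Functor.map_comp, HypSq.pullback_map_eq_zero_of_comp x i a h1, zero_comp]
  obtain ⟨hIx, hdx⟩ := HypSq.point_ideal hdim x hx
  obtain ⟨b, w', hSb⟩ := HypSq.exists_seq x (Groth.L18.Ample.isInvertible_structureModule C)
    (tensorUnitLeft (ClSub.idealMod x.ker))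
  obtain ⟨φ₁, hφ₁⟩ := HypSq.exists_factor x b w' hSb φ hxφ
  have hφ₁0 : φ₁ ≠ 0 := fun h => hφ (by rw [← hφ₁, h, zero_comp])
  have hNi := Groth.L18.Ample.isInvertible_pullback i hN
  have hIi := Groth.L18.Ample.isInvertible_pullback i hI
  have hdI : Curv2.deg k C ((Scheme.Modules.pullback i).obj I) 1 = -1 := by
    have h := Groth.L21.Duality.deg_tensor (k := k) hdim hNi hIi
    rw [deg_congr k (pullTensor i N I ≪≫ (Scheme.Modules.pullback i).mapIso d ≪≫
      Groth.L29.LocFree.pullbackUnitIso i), HypSq.deg_structure',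
      HypSq.deg_sliceFst_graph hdim x hx hf hN ⟨d⟩] at h
    linarith
  obtain ⟨h1, h2⟩ := Groth.L22.CurveDeg.deg_add k hdim.le hIi hIx hφ₁0
  rw [hdI, hdx] at h1
  haveI := h2 (by omega)
  obtain ⟨j⟩ := hAinv
  exact ⟨(tensorUnitRight _).symm ≪≫ tensorIso (Iso.refl _) (j.symm ≪≫ tensorComm _ _) ≪≫
    (tensorAssoc _ _ _).symm ≪≫
    tensorIso (tensorIso (Iso.refl _) (asIso φ₁).symm ≪≫ pullTensor i N I ≪≫
      (Scheme.Modules.pullback i).mapIso d ≪≫ Groth.L29.LocFree.pullbackUnitIso i) (Iso.refl A) ≪≫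
    tensorUnitLeft A⟩

variable {κ : C ⟶ CohB1.ProjSpace 1 k} [IsFinite κ] [Flat κ]
  (hκ : κ ≫ CohB1.ProjSpace.toSpec 1 k = (C ↘ Spec (CommRingCat.of k)))
  (hκ2 : ∀ y : ↥(CohB1.ProjSpace 1 k), κ.finrank y = 2)
  {σ : C ⟶ C} (hσ : σ ≫ κ = κ) (hσ1 : σ ≠ 𝟙 C)
  (hσp : σ ≫ (C ↘ Spec (CommRingCat.of k)) = C ↘ Spec (CommRingCat.of k)) (hxW : x ≫ σ = x)
  {N ND : (Sq k C).Modules} (hN : PicF.IsInvertible N)
  (hNinv : ClSub.IsInverseOf N (ClSub.idealMod (graph hσp).ker))
  (hND : PicF.IsInvertible ND)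
  (hNDinv : ClSub.IsInverseOf ND (ClSub.idealMod (graph (k := k) (f := 𝟙 C) (Category.id_comp _)).ker))

include hdim hx hA hAinv hκ hκ2 hσ hσ1 hσp hxW hN hNinv hND hNDinv in
/-- At a fixed point of the involution twice the point is the pencil. -/
theorem nonempty_square_iso_pencil : Nonempty (CohB1.tensorMod A A ≅ pencil κ) := by
  haveI := HypSq.isIso_of_comp_eq hdim hκ hκ2 hσ hσp
  obtain ⟨t⟩ := HypSq.nonempty_diag_add_graph hdim hκ hκ2 hσ hσ1 hσp hN hNinv hND hNDinv
  obtain ⟨a⟩ := nonempty_slice_graph hdim x hx hA hAinv (Category.id_comp _) (Category.comp_id x) hND hNDinv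
  obtain ⟨b⟩ := nonempty_slice_graph hdim x hx hA hAinv hσp hxW hN hNinv
  obtain ⟨p⟩ := HypSq.nonempty_pullback_point x hx (HypSq.isInvertible_pencil κ)
  exact ⟨tensorIso a.symm b.symm ≪≫ pullTensor _ ND N ≪≫ (Scheme.Modules.pullback _).mapIso t ≪≫
    (pullTensor (sliceFst x hx) _ _).symm ≪≫ tensorIso
    ((Scheme.Modules.pullbackComp _ _).app _ ≪≫ (Scheme.Modules.pullbackCongr (pullback.lift_fst _ _ _)).app _ ≪≫
      (Scheme.Modules.pullbackComp _ _).symm.app _ ≪≫ (Scheme.Modules.pullback _).mapIso p ≪≫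
      Groth.L29.LocFree.pullbackUnitIso _)
    ((Scheme.Modules.pullbackComp _ _).app _ ≪≫ (Scheme.Modules.pullbackCongr (pullback.lift_snd _ _ _)).app _ ≪≫
      (Scheme.Modules.pullbackId C).app _) ≪≫ tensorUnitLeft _⟩

variable {S : Scheme.{u}} {π : Sq k C ⟶ S} [S.Over (Spec (CommRingCat.of k))]
  {ρ : ULift.{u} (Equiv.Perm (Fin 2)) →* Aut (Sq k C)}
  (hρ : (ρ (ULift.up (Equiv.swap 0 1))).hom = swap (k := k) (C := C)) (hπ : SGA1.IsQuot ρ π)
  (hq : π ≫ (S ↘ Spec (CommRingCat.of k)) = (Sq k C) ↘ Spec (CommRingCat.of k))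
  (h2 : (2 : k) ≠ 0) [IsProper (S ↘ Spec (CommRingCat.of k))] [IsIntegral S]

include hdim hx hA hAinv hκ hκ2 hσ hσ1 hσp hxW hN hNinv hND hNDinv hρ hπ hq h2 in
/-- The relation between the classes of a fibre, the diagonal and the graph at a fixed point. -/
theorem nonempty_theta_relation {MΘ MΔ MV : S.Modules}
    (hMΘ : PicF.IsInvertible MΘ) (hMΔ : PicF.IsInvertible MΔ) (hMV : PicF.IsInvertible MV)
    (eΘ : (Scheme.Modules.pullback π).obj MΘ ≅ box (k := k) A A)
    (eΔ : (Scheme.Modules.pullback π).obj MΔ ≅ CohB1.tensorMod ND ND)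
    (eV : (Scheme.Modules.pullback π).obj MV ≅ N) :
    Nonempty (CohB1.tensorPow MΘ 4 ≅ CohB1.tensorMod MΔ (CohB1.tensorPow MV 2)) := by
  obtain ⟨t⟩ := HypSq.nonempty_diag_add_graph hdim hκ hκ2 hσ hσ1 hσp hN hNinv hND hNDinv
  obtain ⟨s⟩ := nonempty_square_iso_pencil hdim x hx hA hAinv hκ hκ2 hσ hσ1 hσp hxW hN hNinv hND hNDinv
  let sq : ∀ G : (Sq k C).Modules, CohB1.tensorPow G 2 ≅ CohB1.tensorMod G G :=
    fun G => tensorIso (tensorPowOne G) (Iso.refl G)
  refine nonempty_iso_of_pullback hdim hND hNDinv hρ hπ hq h2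
    (Groth.L18.Ample.isInvertible_tensorPow hMΘ 4)
    (Groth.L18.GenLoc.isInvertible_tensor hMΔ (Groth.L18.Ample.isInvertible_tensorPow hMV 2))
    (Groth.L18.Ample.pullPow _ _ _ ≪≫ tensorPowIso eΘ 4 ≪≫ (tensorPowMul _ 2 2).symm ≪≫
      tensorPowIso (sq _ ≪≫ HypSq.boxMulIso A A A A ≪≫ tensorIso ((Scheme.Modules.pullback _).mapIso s)
        ((Scheme.Modules.pullback _).mapIso s) ≪≫ t.symm) 2 ≪≫
      tensorPowTensor ND N 2 ≪≫ tensorIso (sq ND ≪≫ eΔ.symm) (tensorPowIso eV.symm 2 ≪≫
        (Groth.L18.Ample.pullPow π MV 2).symm) ≪≫ pullTensor π MΔ _)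

end Groth.L12.SymSq
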